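import Cfsg.Agent.H135.TwoGen

/-!
# Two-generation of the tabulated Chevalley groups: the closure computations (helper135)
-/

set_option autoImplicit false

namespace Cfsg.Agent.H135.TwoG

open Cfsg.Lie Cfsg.Agent.ChevalleyStructure.Elts
open Cfsg.Agent.ChevalleyStructure.W0Small (tabG2 tabG2_ok tabB2 tabB2_ok tabD4 tabD4_ok tabF4 tabF4_ok)
open Cfsg.Agent.ChevalleyStructure.W0E6 (tabE6 tabE6_ok)
open Cfsg.Agent.ChevalleyStructure.W0E7 (tabE7 tabE7_ok)
open Cfsg.Agent.ChevalleyStructure.W0E8 (tabE8 tabE8_ok)

universe u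

variable {F : Type u} [Field F]

/-- closure steps, type G2, at least three elements -/
def bigStepsG2 : List (ℕ × ℕ) :=
    [(4, 4), (11, 11), (2, 2), (6, 6), (1, 1), (3, 3), (0, 0), (7, 7), (5, 5), (9, 9)]

theorem bigG2 [Finite F] (hq : ∃ x : F, x ≠ 0 ∧ x ≠ 1) : ∃ g h : GL chevG2.Idx F,
    g ∈ chevG2.group F ∧ h ∈ chevG2.group F ∧ chevG2.group F ≤ Subgroup.closure {g, h} :=
  gen_big (D := chevG2) (by simp) hq (l := [0, 1]) (W := wT tabG2 [0, 1]) (i := 1) (a := 11) (b := 2) (a' := 10) (b' := 4)
    (by decide +kernel) (wT_eq (by simp) tabG2_ok (by decide +kernel)) (by decide +kernel) (by decide +kernel) (by decide +kernel) (by decide +kernel)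
    (by decide +kernel) (by decide +kernel) (by decide +kernel) (by decide +kernel) (by decide +kernel)
    (by decide +kernel) (by decide +kernel) (steps := bigStepsG2) (by decide +kernel)

/-- closure steps, type B2, at least three elements -/
def bigStepsB2 : List (ℕ × ℕ) :=
    [(2, 2), (4, 4), (0, 0), (1, 1), (3, 3), (5, 5)]

theorem bigB2 [Finite F] (hq : ∃ x : F, x ≠ 0 ∧ x ≠ 1) : ∃ g h : GL chevB2.Idx F,
    g ∈ chevB2.group F ∧ h ∈ chevB2.group F ∧ chevB2.group F ≤ Subgroup.closure {g, h} :=
  gen_big (D := chevB2) (by simp) hq (l := [0, 1]) (W := wT tabB2 [0, 1]) (i := 1) (a := 2) (b := 0) (a' := 6) (b' := 4)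
    (by decide +kernel) (wT_eq (by simp) tabB2_ok (by decide +kernel)) (by decide +kernel) (by decide +kernel) (by decide +kernel) (by decide +kernel)
    (by decide +kernel) (by decide +kernel) (by decide +kernel) (by decide +kernel) (by decide +kernel)
    (by decide +kernel) (by decide +kernel) (steps := bigStepsB2) (by decide +kernel)

/-- closure steps, type D4, at least three elements -/
def bigStepsD4 : List (ℕ × ℕ) :=
    [(7, 7), (8, 8), (10, 10), (11, 11), (20, 20), (21, 21), (15, 15), (16, 16), (12, 12), (13, 13), (2, 8), (0,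
    0), (6, 6), (19, 19), (23, 23), (17, 17), (2, 11), (1, 1), (18, 18), (14, 14), (22, 22), (5, 5)]

theorem bigD4 [Finite F] (hq : ∃ x : F, x ≠ 0 ∧ x ≠ 1) : ∃ g h : GL chevD4.Idx F,
    g ∈ chevD4.group F ∧ h ∈ chevD4.group F ∧ chevD4.group F ≤ Subgroup.closure {g, h} :=
  gen_big (D := chevD4) (by simp) hq (l := [0, 1, 2, 3]) (W := wT tabD4 [0, 1, 2, 3]) (i := 0) (a := 7) (b := 10) (a' := 3) (b' := 8)
    (by decide +kernel) (wT_eq (by simp) tabD4_ok (by decide +kernel)) (by decide +kernel) (by decide +kernel) (by decide +kernel) (by decide +kernel)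
    (by decide +kernel) (by decide +kernel) (by decide +kernel) (by decide +kernel) (by decide +kernel)
    (by decide +kernel) (by decide +kernel) (steps := bigStepsD4) (by decide +kernel)

/-- closure steps, type F4, at least three elements -/
def bigStepsF4 : List (ℕ × ℕ) :=
    [(7, 7), (15, 15), (8, 8), (21, 21), (18, 18), (41, 41), (34, 34), (45, 45), (37, 37), (46, 46), (44, 44), (47,
    47), (32, 32), (40, 40), (26, 26), (39, 39), (6, 6), (29, 29), (2, 2), (13, 13), (1, 1), (10, 10), (0, 32), (5,
    5), (17, 17), (4, 4), (16, 16), (22, 22), (23, 23), (42, 42), (30, 30), (43, 43), (31, 31), (25, 25), (0, 39),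
    (9, 9), (19, 19), (11, 11), (33, 33), (27, 27), (35, 35), (38, 38), (28, 28), (36, 36), (14, 14), (20, 20)]

theorem bigF4 [Finite F] (hq : ∃ x : F, x ≠ 0 ∧ x ≠ 1) : ∃ g h : GL chevF4.Idx F,
    g ∈ chevF4.group F ∧ h ∈ chevF4.group F ∧ chevF4.group F ≤ Subgroup.closure {g, h} :=
  gen_big (D := chevF4) (by simp) hq (l := [0, 1, 2, 3]) (W := wT tabF4 [0, 1, 2, 3]) (i := 0) (a := 7) (b := 21) (a' := 3) (b' := 15)
    (by decide +kernel) (wT_eq (by simp) tabF4_ok (by decide +kernel)) (by decide +kernel) (by decide +kernel) (by decide +kernel) (by decide +kernel)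
    (by decide +kernel) (by decide +kernel) (by decide +kernel) (by decide +kernel) (by decide +kernel)
    (by decide +kernel) (by decide +kernel) (steps := bigStepsF4) (by decide +kernel)

/-- closure steps, type E6, at least three elements -/
def bigStepsE6 : List (ℕ × ℕ) :=
    [(19, 19), (27, 27), (22, 22), (32, 32), (34, 34), (46, 46), (35, 35), (58, 58), (51, 51), (63, 63), (43, 43),
    (65, 65), (44, 44), (48, 48), (49, 49), (60, 60), (15, 15), (25, 25), (13, 13), (29, 29), (20, 20), (24, 24),
    (6, 20), (0, 0), (1, 1), (16, 16), (30, 30), (61, 61), (67, 67), (71, 71), (70, 70), (55, 55), (41, 41), (10,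
    10), (0, 48), (3, 3), (18, 18), (5, 5), (26, 26), (57, 57), (50, 50), (64, 64), (69, 69), (54, 54), (40, 40),
    (38, 38), (3, 34), (2, 2), (17, 17), (31, 31), (33, 33), (62, 62), (68, 68), (53, 53), (66, 66), (45, 45), (14,
    14), (21, 21), (0, 53), (8, 8), (28, 28), (23, 23), (11, 11), (56, 56), (42, 42), (47, 47), (59, 59), (52, 52),
    (39, 39), (37, 37)]

theorem bigE6 [Finite F] (hq : ∃ x : F, x ≠ 0 ∧ x ≠ 1) : ∃ g h : GL chevE6.Idx F,
    g ∈ chevE6.group F ∧ h ∈ chevE6.group F ∧ chevE6.group F ≤ Subgroup.closure {g, h} :=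
  gen_big (D := chevE6) (by simp) hq (l := [0, 1, 2, 3, 4, 5]) (W := wT tabE6 [0, 1, 2, 3, 4, 5]) (i := 0) (a := 19) (b := 22) (a' := 12) (b' := 27)
    (by decide +kernel) (wT_eq (by simp) tabE6_ok (by decide +kernel)) (by decide +kernel) (by decide +kernel) (by decide +kernel) (by decide +kernel)
    (by decide +kernel) (by decide +kernel) (by decide +kernel) (by decide +kernel) (by decide +kernel)
    (by decide +kernel) (by decide +kernel) (steps := bigStepsE6) (by decide +kernel)

/-- closure steps, type E7, at least three elements -/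
def bigStepsE7 : List (ℕ × ℕ) :=
    [(1, 1), (49, 49), (2, 2), (43, 43), (7, 7), (78, 78), (33, 33), (95, 95), (53, 53), (84, 84), (99, 99), (104,
    104), (109, 109), (113, 113), (88, 88), (119, 119), (107, 107), (125, 125), (76, 76), (124, 124), (82, 82),
    (123, 123), (47, 47), (118, 118), (30, 30), (92, 92), (41, 41), (72, 72), (21, 21), (26, 26), (12, 12), (16,
    16), (6, 6), (37, 37), (0, 95), (3, 3), (8, 8), (34, 34), (54, 54), (57, 57), (100, 100), (110, 110), (120,
    120), (115, 115), (122, 122), (117, 117), (91, 91), (71, 71), (68, 68), (25, 25), (15, 15), (5, 5), (0, 109),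
    (17, 17), (48, 48), (94, 94), (83, 83), (103, 103), (112, 112), (121, 121), (116, 116), (90, 90), (108, 108),
    (77, 77), (31, 31), (42, 42), (22, 22), (13, 13), (4, 4), (9, 9), (0, 103), (11, 11), (36, 36), (55, 55), (58,
    58), (60, 60), (101, 101), (111, 111), (87, 87), (106, 106), (114, 114), (89, 89), (70, 70), (67, 67), (65,
    65), (24, 24), (14, 14), (38, 38), (0, 112), (20, 20), (50, 50), (44, 44), (27, 27), (93, 93), (73, 73), (79,
    79), (96, 96), (85, 85), (105, 105), (75, 75), (81, 81), (98, 98), (32, 32), (52, 52), (46, 46), (29, 29), (0,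
    115), (23, 23), (51, 51), (45, 45), (28, 28), (39, 39), (56, 56), (59, 59), (61, 61), (62, 62), (102, 102),
    (74, 74), (80, 80), (97, 97), (86, 86), (69, 69), (66, 66), (64, 64)]

theorem bigE7 [Finite F] (hq : ∃ x : F, x ≠ 0 ∧ x ≠ 1) : ∃ g h : GL chevE7.Idx F,
    g ∈ chevE7.group F ∧ h ∈ chevE7.group F ∧ chevE7.group F ≤ Subgroup.closure {g, h} :=
  gen_big (D := chevE7) (by simp) hq (l := [0, 1, 2, 3, 4, 5, 6]) (W := wT tabE7 [0, 1, 2, 3, 4, 5, 6]) (i := 0) (a := 1) (b := 43) (a' := 0) (b' := 49)
    (by decide +kernel) (wT_eq (by simp) tabE7_ok (by decide +kernel)) (by decide +kernel) (by decide +kernel) (by decide +kernel) (by decide +kernel)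
    (by decide +kernel) (by decide +kernel) (by decide +kernel) (by decide +kernel) (by decide +kernel)
    (by decide +kernel) (by decide +kernel) (steps := bigStepsE7) (by decide +kernel)

/-- closure steps, type E8, at least three elements -/
def bigStepsE8 : List (ℕ × ℕ) :=
    [(15, 15), (16, 16), (21, 21), (22, 22), (36, 36), (37, 37), (78, 78), (79, 79), (105, 105), (106, 106), (110,
    110), (169, 169), (170, 170), (184, 184), (185, 185), (204, 204), (205, 205), (226, 226), (227, 227), (234,
    234), (219, 219), (235, 235), (233, 233), (236, 236), (232, 232), (237, 237), (225, 225), (238, 238), (231,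
    231), (239, 239), (223, 223), (224, 224), (217, 217), (218, 218), (202, 202), (203, 203), (160, 160), (161,
    161), (133, 133), (134, 134), (70, 70), (129, 129), (55, 55), (69, 69), (35, 35), (54, 54), (13, 13), (34, 34),
    (5, 5), (12, 12), (4, 4), (20, 20), (3, 3), (6, 6), (2, 2), (7, 7), (1, 1), (14, 14), (0, 160), (11, 11), (19,
    19), (25, 25), (9, 9), (17, 17), (23, 23), (38, 38), (80, 80), (56, 56), (99, 99), (163, 163), (147, 147),
    (174, 174), (188, 188), (207, 207), (228, 228), (220, 220), (214, 214), (230, 230), (222, 222), (216, 216),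
    (201, 201), (159, 159), (183, 183), (140, 140), (76, 76), (92, 92), (65, 65), (51, 51), (0, 201), (30, 30),
    (43, 43), (83, 83), (58, 58), (46, 46), (84, 84), (108, 108), (112, 112), (115, 115), (117, 117), (172, 172),
    (187, 187), (152, 152), (178, 178), (191, 191), (209, 209), (196, 196), (156, 156), (181, 181), (193, 193),
    (155, 155), (131, 131), (127, 127), (124, 124), (122, 122), (67, 67), (52, 52), (87, 87), (61, 61), (0, 193),
    (24, 24), (39, 39), (26, 26), (40, 40), (81, 81), (107, 107), (111, 111), (114, 114), (171, 171), (186, 186),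
    (206, 206), (194, 194), (210, 210), (229, 229), (221, 221), (215, 215), (200, 200), (213, 213), (199, 199),
    (158, 158), (132, 132), (128, 128), (125, 125), (68, 68), (53, 53), (33, 33), (45, 45), (29, 29), (10, 10), (0,
    199), (28, 28), (42, 42), (27, 27), (41, 41), (82, 82), (57, 57), (100, 100), (93, 93), (141, 141), (164, 164),
    (148, 148), (175, 175), (189, 189), (208, 208), (195, 195), (211, 211), (197, 197), (212, 212), (198, 198),
    (157, 157), (182, 182), (139, 139), (146, 146), (98, 98), (75, 75), (91, 91), (64, 64), (50, 50), (31, 31), (0,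
    216), (47, 47), (85, 85), (59, 59), (101, 101), (94, 94), (71, 71), (162, 162), (135, 135), (142, 142), (165,
    165), (149, 149), (176, 176), (190, 190), (153, 153), (179, 179), (192, 192), (154, 154), (180, 180), (138,
    138), (145, 145), (168, 168), (77, 77), (104, 104), (97, 97), (74, 74), (90, 90), (63, 63), (49, 49), (86, 86),
    (0, 223), (62, 62), (102, 102), (95, 95), (72, 72), (88, 88), (109, 109), (113, 113), (116, 116), (118, 118),
    (119, 119), (173, 173), (136, 136), (143, 143), (166, 166), (150, 150), (177, 177), (137, 137), (144, 144),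
    (167, 167), (151, 151), (130, 130), (126, 126), (123, 123), (121, 121), (120, 120), (66, 66), (103, 103), (96,
    96), (73, 73)]

theorem bigE8 [Finite F] (hq : ∃ x : F, x ≠ 0 ∧ x ≠ 1) : ∃ g h : GL chevE8.Idx F,
    g ∈ chevE8.group F ∧ h ∈ chevE8.group F ∧ chevE8.group F ≤ Subgroup.closure {g, h} :=
  gen_big (D := chevE8) (by simp) hq (l := [0, 1, 2, 3, 4, 5, 6, 7]) (W := wT tabE8 [0, 1, 2, 3, 4, 5, 6, 7]) (i := 0) (a := 16) (b := 21) (a' := 8) (b' := 15)
    (by decide +kernel) (wT_eq (by simp) tabE8_ok (by decide +kernel)) (by decide +kernel) (by decide +kernel) (by decide +kernel) (by decide +kernel)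
    (by decide +kernel) (by decide +kernel) (by decide +kernel) (by decide +kernel) (by decide +kernel)
    (by decide +kernel) (by decide +kernel) (steps := bigStepsE8) (by decide +kernel)

/-- closure steps, type E6, two elements -/
def twoStepsE6 : List (ℕ × ℕ) :=
    [(2, 2), (17, 17), (31, 31), (33, 33), (62, 62), (68, 68), (53, 53), (66, 66), (45, 45), (14, 14), (21, 21),
    (2, 45), (9, 9), (3, 3), (18, 18), (5, 5), (26, 26), (57, 57), (50, 50), (64, 64), (69, 69), (54, 54), (40,
    40), (2, 38), (4, 4), (0, 0), (1, 1), (16, 16), (30, 30), (61, 61), (67, 67), (71, 71), (70, 70), (55, 55),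
    (41, 41), (0, 53), (8, 8), (28, 28), (23, 23), (11, 11), (56, 56), (42, 42), (47, 47), (59, 59), (52, 52), (39,
    39), (37, 37), (0, 64), (19, 19), (32, 32), (34, 34), (35, 35), (63, 63), (43, 43), (48, 48), (60, 60), (15,
    15), (29, 29), (24, 24), (0, 67), (22, 22), (46, 46), (58, 58), (51, 51), (65, 65), (44, 44), (49, 49), (25,
    25), (13, 13), (20, 20), (6, 6)]

theorem twoE6 (hF : ∀ x : F, x = 0 ∨ x = 1) : ∃ g h : GL chevE6.Idx F,
    g ∈ chevE6.group F ∧ h ∈ chevE6.group F ∧ chevE6.group F ≤ Subgroup.closure {g, h} :=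
  gen_two (D := chevE6) (by simp) hF (l := [0, 1, 2, 3, 4, 5]) (by decide +kernel) (W := wT tabE6 [0, 1, 2, 3, 4, 5])
    (wT_eq (by simp) tabE6_ok (by decide +kernel)) (a := 2) (steps := twoStepsE6)
    (by decide +kernel)

/-- closure steps, type E7, two elements -/
def twoStepsE7 : List (ℕ × ℕ) :=
    [(3, 3), (8, 8), (34, 34), (54, 54), (57, 57), (100, 100), (110, 110), (120, 120), (115, 115), (122, 122),
    (117, 117), (91, 91), (71, 71), (68, 68), (25, 25), (15, 15), (5, 5), (3, 68), (6, 6), (0, 0), (1, 1), (2, 2),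
    (7, 7), (33, 33), (53, 53), (99, 99), (109, 109), (119, 119), (125, 125), (124, 124), (123, 123), (118, 118),
    (92, 92), (72, 72), (26, 26), (0, 109), (17, 17), (48, 48), (94, 94), (83, 83), (103, 103), (112, 112), (121,
    121), (116, 116), (90, 90), (108, 108), (77, 77), (31, 31), (42, 42), (22, 22), (13, 13), (4, 4), (9, 9), (0,
    103), (11, 11), (36, 36), (55, 55), (58, 58), (60, 60), (101, 101), (111, 111), (87, 87), (106, 106), (114,
    114), (89, 89), (70, 70), (67, 67), (65, 65), (24, 24), (14, 14), (38, 38), (0, 110), (18, 18), (49, 49), (43,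
    43), (78, 78), (95, 95), (84, 84), (104, 104), (113, 113), (88, 88), (107, 107), (76, 76), (82, 82), (47, 47),
    (30, 30), (41, 41), (21, 21), (12, 12), (0, 112), (20, 20), (50, 50), (44, 44), (27, 27), (93, 93), (73, 73),
    (79, 79), (96, 96), (85, 85), (105, 105), (75, 75), (81, 81), (98, 98), (32, 32), (52, 52), (46, 46), (29, 29),
    (0, 115), (23, 23), (51, 51), (45, 45), (28, 28), (39, 39), (56, 56), (59, 59), (61, 61), (62, 62), (102, 102),
    (74, 74), (80, 80), (97, 97), (86, 86), (69, 69), (66, 66), (64, 64)]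

theorem twoE7 (hF : ∀ x : F, x = 0 ∨ x = 1) : ∃ g h : GL chevE7.Idx F,
    g ∈ chevE7.group F ∧ h ∈ chevE7.group F ∧ chevE7.group F ≤ Subgroup.closure {g, h} :=
  gen_two (D := chevE7) (by simp) hF (l := [0, 1, 2, 3, 4, 5, 6]) (by decide +kernel) (W := wT tabE7 [0, 1, 2, 3, 4, 5, 6])
    (wT_eq (by simp) tabE7_ok (by decide +kernel)) (a := 3) (steps := twoStepsE7)
    (by decide +kernel)

/-- closure steps, type E8, two elements -/
def twoStepsE8 : List (ℕ × ℕ) :=
    [(0, 0), (15, 15), (21, 21), (36, 36), (78, 78), (105, 105), (169, 169), (184, 184), (204, 204), (226, 226),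
    (234, 234), (235, 235), (236, 236), (237, 237), (238, 238), (239, 239), (224, 224), (218, 218), (203, 203),
    (161, 161), (134, 134), (70, 70), (55, 55), (35, 35), (13, 13), (5, 5), (4, 4), (3, 3), (2, 2), (0, 161), (12,
    12), (20, 20), (6, 6), (7, 7), (14, 14), (8, 8), (16, 16), (22, 22), (37, 37), (79, 79), (106, 106), (110,
    110), (170, 170), (185, 185), (205, 205), (227, 227), (219, 219), (233, 233), (232, 232), (225, 225), (231,
    231), (223, 223), (217, 217), (202, 202), (160, 160), (133, 133), (129, 129), (69, 69), (54, 54), (0, 160),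
    (11, 11), (19, 19), (25, 25), (9, 9), (17, 17), (23, 23), (38, 38), (80, 80), (56, 56), (99, 99), (163, 163),
    (147, 147), (174, 174), (188, 188), (207, 207), (228, 228), (220, 220), (214, 214), (230, 230), (222, 222),
    (216, 216), (201, 201), (159, 159), (183, 183), (140, 140), (76, 76), (92, 92), (65, 65), (51, 51), (0, 201),
    (30, 30), (43, 43), (83, 83), (58, 58), (46, 46), (84, 84), (108, 108), (112, 112), (115, 115), (117, 117),
    (172, 172), (187, 187), (152, 152), (178, 178), (191, 191), (209, 209), (196, 196), (156, 156), (181, 181),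
    (193, 193), (155, 155), (131, 131), (127, 127), (124, 124), (122, 122), (67, 67), (52, 52), (87, 87), (61, 61),
    (0, 193), (24, 24), (39, 39), (26, 26), (40, 40), (81, 81), (107, 107), (111, 111), (114, 114), (171, 171),
    (186, 186), (206, 206), (194, 194), (210, 210), (229, 229), (221, 221), (215, 215), (200, 200), (213, 213),
    (199, 199), (158, 158), (132, 132), (128, 128), (125, 125), (68, 68), (53, 53), (33, 33), (45, 45), (29, 29),
    (10, 10), (0, 199), (28, 28), (42, 42), (27, 27), (41, 41), (82, 82), (57, 57), (100, 100), (93, 93), (141,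
    141), (164, 164), (148, 148), (175, 175), (189, 189), (208, 208), (195, 195), (211, 211), (197, 197), (212,
    212), (198, 198), (157, 157), (182, 182), (139, 139), (146, 146), (98, 98), (75, 75), (91, 91), (64, 64), (50,
    50), (31, 31), (0, 216), (47, 47), (85, 85), (59, 59), (101, 101), (94, 94), (71, 71), (162, 162), (135, 135),
    (142, 142), (165, 165), (149, 149), (176, 176), (190, 190), (153, 153), (179, 179), (192, 192), (154, 154),
    (180, 180), (138, 138), (145, 145), (168, 168), (77, 77), (104, 104), (97, 97), (74, 74), (90, 90), (63, 63),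
    (49, 49), (86, 86), (0, 223), (62, 62), (102, 102), (95, 95), (72, 72), (88, 88), (109, 109), (113, 113), (116,
    116), (118, 118), (119, 119), (173, 173), (136, 136), (143, 143), (166, 166), (150, 150), (177, 177), (137,
    137), (144, 144), (167, 167), (151, 151), (130, 130), (126, 126), (123, 123), (121, 121), (120, 120), (66, 66),
    (103, 103), (96, 96), (73, 73)]

theorem twoE8 (hF : ∀ x : F, x = 0 ∨ x = 1) : ∃ g h : GL chevE8.Idx F,
    g ∈ chevE8.group F ∧ h ∈ chevE8.group F ∧ chevE8.group F ≤ Subgroup.closure {g, h} :=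
  gen_two (D := chevE8) (by simp) hF (l := [0, 1, 2, 3, 4, 5, 6, 7]) (by decide +kernel) (W := wT tabE8 [0, 1, 2, 3, 4, 5, 6, 7])
    (wT_eq (by simp) tabE8_ok (by decide +kernel)) (a := 0) (steps := twoStepsE8)
    (by decide +kernel)

/-- closure steps, type D4, two elements -/
def twoStepsAD4 : List (ℕ × ℕ) :=
    [(1, 1), (18, 18), (14, 14), (22, 22), (5, 5)]

/-- closure steps, type D4, two elements -/
def twoStepsBD4 : List (ℕ × ℕ) :=
    [(10, 10), (21, 21), (15, 15), (13, 13), (2, 2), (1, 9), (0, 0), (6, 6), (19, 19), (23, 23), (17, 17), (1, 13),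
    (3, 3), (7, 7), (11, 11), (20, 20), (16, 16)]

theorem twoD4 [CharP F 2] (hF : ∀ x : F, x = 0 ∨ x = 1) : ∃ g h : GL chevD4.Idx F,
    g ∈ chevD4.group F ∧ h ∈ chevD4.group F ∧ chevD4.group F ≤ Subgroup.closure {g, h} :=
  gen_two' (D := chevD4) (by simp) hF (l := [0, 1, 2, 3]) (W := wT tabD4 [0, 1, 2, 3]) (a := 1) (b := 7) (c := 14) (by decide +kernel)
    (wT_eq (by simp) tabD4_ok (by decide +kernel))
    (by decide +kernel) (by decide +kernel) (by decide +kernel) (by decide +kernel) (by decide +kernel)
    (by decide +kernel) (by decide +kernel) (by decide +kernel) (steps₁ := twoStepsAD4) (steps₂ := twoStepsBD4)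
    (S := 4473378) (by decide +kernel) (by decide +kernel) (e := (10, -1, 1, 1)) (by decide +kernel)
    (by decide +kernel) (by decide +kernel)

/-- closure steps, type F4, two elements -/
def twoStepsAF4 : List (ℕ × ℕ) :=
    [(0, 0), (15, 15), (21, 21), (41, 41), (45, 45), (46, 46), (47, 47), (32, 32), (26, 26), (6, 6), (2, 2)]

/-- closure steps, type F4, two elements -/
def twoStepsBF4 : List (ℕ × ℕ) :=
    [(8, 8), (18, 18), (34, 34), (37, 37), (44, 44), (40, 40), (39, 39), (29, 29), (13, 13), (10, 10), (3, 3), (0,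
    32), (5, 5), (17, 17), (4, 4), (16, 16), (22, 22), (23, 23), (42, 42), (30, 30), (43, 43), (31, 31), (25, 25),
    (0, 39), (9, 9), (19, 19), (11, 11), (33, 33), (27, 27), (35, 35), (38, 38), (28, 28), (36, 36), (14, 14), (20,
    20)]

theorem twoF4 [CharP F 2] (hF : ∀ x : F, x = 0 ∨ x = 1) : ∃ g h : GL chevF4.Idx F,
    g ∈ chevF4.group F ∧ h ∈ chevF4.group F ∧ chevF4.group F ≤ Subgroup.closure {g, h} :=
  gen_two' (D := chevF4) (by simp) hF (l := [0, 1, 2, 3]) (W := wT tabF4 [0, 1, 2, 3]) (a := 0) (b := 10) (c := 21) (by decide +kernel)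
    (wT_eq (by simp) tabF4_ok (by decide +kernel))
    (by decide +kernel) (by decide +kernel) (by decide +kernel) (by decide +kernel) (by decide +kernel)
    (by decide +kernel) (by decide +kernel) (by decide +kernel) (steps₁ := twoStepsAF4) (steps₂ := twoStepsBF4)
    (S := 248493992083527) (by decide +kernel) (by decide +kernel) (e := (8, -1, 1, 1)) (by decide +kernel)
    (by decide +kernel) (by decide +kernel)

end Cfsg.Agent.H135.TwoG
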