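import Cfsg.Agent.H135.KTwo

/-!
# The Steinberg group of type `A` over a finite field, end (helper135)

Bruhat decomposition; the kernel of the map to `SL` is trivial (any characteristic, generalises `AGraded.KTwoB`).
-/

set_option autoImplicit false
set_option linter.unusedSectionVars false
set_option linter.unusedVariables false

namespace Cfsg.Agent.H135.KTwo

open scoped commutatorElement
open Matrix Cfsg.Agent.ChevalleyStructure.SteinbergBruhat
open Cfsg.Agent.AGraded (SteinRel gens ker_le_center cj mem_cj cj_mul cj_one cj_eq_iff D_ext map_D)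

universe u v w

variable {F : Type v} [Field F] {Γ : Type w} [Group Γ]

section gen

variable {ι : Type u} [Fintype ι] [DecidableEq ι]

variable {x : ι → ι → F → Γ} (h : SteinRel x)

/-! ### the torus as a product -/

/-- the torus -/
def tor (x : ι → ι → F → Γ) : Subgroup Γ := Subgroup.closure {g | ∃ i j, i ≠ j ∧ ∃ u, u ≠ 0 ∧ g = t x i j u}

theorem t_mem_tor {i j : ι} (hij : i ≠ j) {u : F} (hu : u ≠ 0) : t x i j u ∈ tor x :=
  Subgroup.subset_closure ⟨i, j, hij, u, hu, rfl⟩

include h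

theorem t_rev (hι : 3 ≤ Fintype.card ι) {i j : ι} (hij : i ≠ j) {u : F} (hu : u ≠ 0) :
    t x j i u = t x i j (-u⁻¹) * (t x i j (-1))⁻¹ := by
  have h1 : w x j i u = w x i j (-u⁻¹) := w_symm h hι hij.symm hu
  have h2 : w x j i (-1) = w x i j 1 := by
    rw [w_symm h hι hij.symm (neg_ne_zero.2 one_ne_zero), inv_neg, neg_neg, inv_one]
  have h3 := w_mul_w h hij (-u⁻¹) (-1)
  rw [neg_neg] at h3
  rw [t, h1, h2, h3]

theorem t_dec (hι : 3 ≤ Fintype.card ι) {o i j : ι} (hoi : o ≠ i) (hoj : o ≠ j) (hij : i ≠ j) {u : F} (hu : u ≠ 0) :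
    t x i j u⁻¹ = t x o i u * (t x o j (-u) * (t x o j (-1))⁻¹)⁻¹ := by
  have e : wt o i i j u = u⁻¹ := by simp [wt, hoi.symm, hoj.symm, hij.symm]
  have h1 := t_conj_w h hι hoi hu hij 1
  rw [e, mul_one] at h1
  have h2 : w x i j 1 * t x o i u * (w x i j 1)⁻¹ = t x o j (-u) * (t x o j (-1))⁻¹ := by
    have h3 := w_conj_t h hι hij (u := (1 : F)) one_ne_zero hoi u
    rw [Equiv.swap_apply_left, Equiv.swap_apply_of_ne_of_ne hoi hoj] at h3
    have e1 : om i j (1 : F) o = 1 := by simp [om, hoi, hoj]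
    have e2 : om i j (1 : F) i = -1 := by simp [om]
    rw [e1, e2, inv_neg, inv_one, one_mul, mul_neg, mul_one, one_mul] at h3
    exact h3
  have h3 : t x i j u⁻¹ = t x o i u * w x i j 1 * (t x o i u)⁻¹ * (w x i j 1)⁻¹ := by
    rw [h1, t, winv h hij]
  rw [h3, ← h2]
  group

/-- the torus maps isomorphically to the diagonal group -/
theorem tor_inj [Finite F] (hι : 3 ≤ Fintype.card ι) {φ : Γ →* SpecialLinearGroup ι F}
    (hφ : ∀ i j (hij : i ≠ j) a, φ (x i j a) = SpecialLinearGroup.transvection hij a)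
    (hker : φ.ker ≤ Subgroup.center Γ) {g : Γ} (hg : g ∈ tor x) (hg1 : φ g = 1) : g = 1 := by
  have hm : ∀ i j, i ≠ j → ∀ u v, u ≠ 0 → v ≠ 0 → t x i j u * t x i j v = t x i j (u * v) := by
    intro i j hij u v hu hv
    rw [t_mul_t, sym_eq_one h hι hφ hker hij hu hv, one_mul]
  have hcomm : ∀ i j k l, i ≠ j → k ≠ l → ∀ u v, u ≠ 0 → v ≠ 0 → Commute (t x i j u) (t x k l v) := by
    intro i j k l hij hkl u v hu hv
    have h1 := t_conj_t h hι hij hu hkl v
    have h2 : wt i j k l u ≠ 0 := wt_ne_zero hu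
    rw [← hm k l hkl _ _ h2 hv, (show t x k l (wt i j k l u) * t x k l v = t x k l v * t x k l (wt i j k l u) by
      rw [hm k l hkl _ _ h2 hv, hm k l hkl _ _ hv h2, mul_comm]), mul_inv_cancel_right] at h1
    change t x i j u * t x k l v = t x k l v * t x i j u
    calc t x i j u * t x k l v = t x i j u * t x k l v * (t x i j u)⁻¹ * t x i j u := by group
      _ = _ := by rw [h1]
  have : Nonempty ι := Fintype.card_pos_iff.1 (by omega)
  obtain ⟨o⟩ := this
  let f : ι → Fˣ →* Γ := fun j => if hj : o = j then 1 else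
    { toFun := fun u => t x o j u
      map_one' := by rw [Units.val_one]; exact t_one h hj
      map_mul' := fun u v => (hm o j hj u v u.ne_zero v.ne_zero).symm }
  have hf : ∀ j, o ≠ j → ∀ u : Fˣ, f j u = t x o j u := by
    intro j hj u
    simp only [f, dif_neg hj]
    rfl
  have hfo : ∀ u : Fˣ, f o u = 1 := by
    intro u
    simp only [f, dif_pos]
    rfl
  have hpair : Pairwise fun i j => ∀ a b : Fˣ, Commute (f i a) (f j b) := by
    intro i j hij a b
    by_cases hi : o = i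
    · subst hi
      rw [hfo]
      exact Commute.one_left _
    by_cases hj : o = j
    · subst hj
      rw [hfo]
      exact Commute.one_right _
    rw [hf i hi, hf j hj]
    exact hcomm _ _ _ _ hi hj _ _ a.ne_zero b.ne_zero
  let Θ : (ι → Fˣ) →* Γ := MonoidHom.noncommPiCoprod f hpair
  have hΘ : ∀ j (u : Fˣ), Θ (Pi.mulSingle j u) = f j u := fun j u => MonoidHom.noncommPiCoprod_mulSingle ..
  have hr : ∀ j, o ≠ j → ∀ u, u ≠ 0 → t x o j u ∈ Θ.range := by
    intro j hj u hu
    exact ⟨Pi.mulSingle j (Units.mk0 u hu), by rw [hΘ, hf j hj, Units.val_mk0]⟩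
  have h1 : (-1 : F) ≠ 0 := neg_ne_zero.2 one_ne_zero
  have hle : tor x ≤ Θ.range := by
    rw [tor, Subgroup.closure_le]
    rintro _ ⟨i, j, hij, u, hu, rfl⟩
    by_cases hi : o = i
    · subst hi
      exact hr j hij u hu
    by_cases hj : o = j
    · subst hj
      rw [t_rev h hι hi hu]
      exact Subgroup.mul_mem _ (hr i hi _ (neg_ne_zero.2 (inv_ne_zero hu))) (Subgroup.inv_mem _ (hr i hi _ h1))
    · have h2 := t_dec h hι hi hj hij (inv_ne_zero hu)
      rw [inv_inv] at h2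
      rw [h2]
      exact Subgroup.mul_mem _ (hr i hi _ (inv_ne_zero hu)) (Subgroup.inv_mem _ (Subgroup.mul_mem _
        (hr j hj _ (neg_ne_zero.2 (inv_ne_zero hu))) (Subgroup.inv_mem _ (hr j hj _ h1))))
  obtain ⟨y, rfl⟩ := hle hg
  -- the diagonal entries
  have hdiag : ∀ y : ι → Fˣ, ∀ k, o ≠ k → ∀ v : ι → F, (φ (Θ y) • v) k = ((y k)⁻¹ : Fˣ) * v k := by
    intro y k hk
    refine Pi.mulSingle_induction (fun y => ∀ v : ι → F, (φ (Θ y) • v) k = ((y k)⁻¹ : Fˣ) * v k) y ?_ ?_ ?_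
    · intro v
      rw [map_one, map_one, one_smul]
      simp
    · intro a b ha hb v
      rw [map_mul, map_mul, mul_smul, ha, hb, Pi.mul_apply, _root_.mul_inv_rev, Units.val_mul]
      ring
    · intro j a v
      rw [hΘ]
      by_cases hj : o = j
      · subst hj
        rw [hfo, map_one, one_smul, Pi.mulSingle_eq_of_ne hk.symm]
        simp
      · rw [hf j hj, phi_t hφ hj a.ne_zero]
        by_cases hkj : k = j
        · subst hkj
          simp [hk.symm]
        · rw [Pi.mulSingle_eq_of_ne hkj]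
          simp [hk.symm, hkj]
  have hy : y = Pi.mulSingle o (y o) := by
    funext k
    by_cases hk : o = k
    · subst hk
      simp
    · have h1 := hdiag y k hk (fun _ => 1)
      rw [hg1, one_smul, mul_one] at h1
      have h2 : (y k)⁻¹ = 1 := Units.ext h1.symm
      rw [Pi.mulSingle_eq_of_ne (Ne.symm hk)]
      rwa [inv_eq_one] at h2
  rw [hy, hΘ, hfo]

/-- the torus acts on root elements by scalars -/
theorem tor_conj (hι : 3 ≤ Fintype.card ι) {g : Γ} (hg : g ∈ tor x) {k l : ι} (hkl : k ≠ l) :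
    ∃ c : F, c ≠ 0 ∧ ∀ a, g * x k l a * g⁻¹ = x k l (c * a) := by
  rw [tor] at hg
  induction hg using Subgroup.closure_induction with
  | mem y hy =>
    obtain ⟨i, j, hij, u, hu, rfl⟩ := hy
    exact ⟨wt i j k l u, wt_ne_zero hu, fun a => t_conj h hι hij hu hkl a⟩
  | one => exact ⟨1, one_ne_zero, fun a => by simp⟩
  | mul y z _ _ hy hz =>
    obtain ⟨c, hc, h1⟩ := hy
    obtain ⟨d, hd, h2⟩ := hz
    refine ⟨c * d, mul_ne_zero hc hd, fun a => ?_⟩
    have e : y * z * x k l a * (y * z)⁻¹ = y * (z * x k l a * z⁻¹) * y⁻¹ := by group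
    rw [e, h2, h1, mul_assoc]
  | inv y _ hy =>
    obtain ⟨c, hc, h1⟩ := hy
    refine ⟨c⁻¹, inv_ne_zero hc, fun a => ?_⟩
    have h2 := h1 (c⁻¹ * a)
    rw [mul_inv_cancel_left₀ hc] at h2
    rw [← h2]; group

/-- the Weyl elements normalise the torus -/
theorem w_conj_tor (hι : 3 ≤ Fintype.card ι) {i j : ι} (hij : i ≠ j) {u : F} (hu : u ≠ 0) {g : Γ} (hg : g ∈ tor x) :
    w x i j u * g * (w x i j u)⁻¹ ∈ tor x := by
  have : tor x ≤ (tor x).comap (MulAut.conj (w x i j u)).toMonoidHom := by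
    refine (Subgroup.closure_le _).2 ?_
    rintro _ ⟨k, l, hkl, v, hv, rfl⟩
    change w x i j u * t x k l v * (w x i j u)⁻¹ ∈ tor x
    have hkl' : Equiv.swap i j k ≠ Equiv.swap i j l := fun e => hkl ((Equiv.swap i j).injective e)
    have h1 := om_ne_zero (i := i) (j := j) hu k
    have h2 := inv_ne_zero (om_ne_zero (i := i) (j := j) hu l)
    rw [w_conj_t h hι hij hu hkl]
    exact Subgroup.mul_mem _ (t_mem_tor hkl' (mul_ne_zero (mul_ne_zero h1 hv) h2))
      (Subgroup.inv_mem _ (t_mem_tor hkl' (mul_ne_zero h1 h2)))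
  exact this hg

end gen

variable {m : ℕ} {x : Fin (m + 1) → Fin (m + 1) → F → Γ} (h : SteinRel x)

/-- the roots -/
abbrev Root (m : ℕ) := {p : Fin (m + 1) × Fin (m + 1) // p.1 ≠ p.2}

/-- the action of permutations on roots -/
def tr (σ : Equiv.Perm (Fin (m + 1))) (p : Root m) : Root m :=
  ⟨(σ p.1.1, σ p.1.2), fun e => p.2 (σ.injective e)⟩

/-- the root datum -/
def rd : RData Γ (Root m) (Fin m) where
  pos p := p.1.1 < p.1.2
  neg p := ⟨(p.1.2, p.1.1), p.2.symm⟩
  sim i := ⟨(i.castSucc, i.succ), (Fin.castSucc_lt_succ).ne⟩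
  refl i p := tr (Equiv.swap i.castSucc i.succ) p
  X p := (h.rt p.1.1 p.1.2).range
  H := tor x
  n i := w x i.castSucc i.succ 1

include h

theorem mem_X {i j : Fin (m + 1)} (hij : i ≠ j) {y : Γ} : y ∈ (rd h).X ⟨(i, j), hij⟩ ↔ ∃ a, y = x i j a := by
  constructor
  · rintro ⟨a, rfl⟩
    exact ⟨Multiplicative.toAdd a, (h.rt_apply hij (Multiplicative.toAdd a)).symm ▸ rfl⟩
  · rintro ⟨a, rfl⟩
    exact ⟨Multiplicative.ofAdd a, h.rt_apply hij a⟩

omit h in
theorem cs_ne (i : Fin m) : i.castSucc ≠ i.succ := (Fin.castSucc_lt_succ).ne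

/-- the flag stabiliser -/
def flag (φ : Γ →* SpecialLinearGroup (Fin (m + 1)) F) : Subgroup Γ where
  carrier := {g | ∀ (c : Fin (m + 1)) (v : Fin (m + 1) → F),
    (∀ j, c < j → v j = 0) ↔ ∀ j, c < j → (φ g • v) j = 0}
  one_mem' := by
    intro c v
    rw [map_one, one_smul]
  mul_mem' := by
    intro a b ha hb c v
    rw [map_mul, mul_smul, hb c v, ha c (φ b • v)]
  inv_mem' := by
    intro a ha c v
    have := ha c (φ a⁻¹ • v)
    rw [map_inv, smul_inv_smul] at this
    rw [map_inv]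
    exact this.symm

variable {φ : Γ →* SpecialLinearGroup (Fin (m + 1)) F}
  (hφ : ∀ i j (hij : i ≠ j) a, φ (x i j a) = SpecialLinearGroup.transvection hij a)

omit h in
theorem X_le_flag (hφ : ∀ i j (hij : i ≠ j) a, φ (x i j a) = SpecialLinearGroup.transvection hij a)
    {i j : Fin (m + 1)} (hij : i < j) (a : F) : x i j a ∈ flag φ := by
  intro c v
  constructor
  · intro hv k hk
    rw [phi_x hφ hij.ne]
    split_ifs with hki
    · subst hki
      rw [hv k hk, hv j (hk.trans hij)]; simp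
    · exact hv k hk
  · intro hv k hk
    have hj : ∀ k, c < k → k ≠ i → v k = 0 := by
      intro k hk hki
      have := hv k hk
      rwa [phi_x hφ hij.ne, if_neg hki] at this
    by_cases hki : k = i
    · subst hki
      have := hv k hk
      rw [phi_x hφ hij.ne, if_pos rfl, hj j (hk.trans hij) hij.ne'] at this
      simpa using this
    · exact hj k hk hki

omit h in
theorem t_mem_flag (hφ : ∀ i j (hij : i ≠ j) a, φ (x i j a) = SpecialLinearGroup.transvection hij a)
    {i j : Fin (m + 1)} (hij : i ≠ j) {u : F} (hu : u ≠ 0) : t x i j u ∈ flag φ := by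
  intro c v
  have e : ∀ k, (φ (t x i j u) • v) k = 0 ↔ v k = 0 := by
    intro k
    rw [phi_t hφ hij hu]
    split_ifs with h1 h2
    · subst h1
      simp [hu]
    · subst h2
      simp [hu]
    · rfl
  simp only [e]

theorem B_le_flag (hφ : ∀ i j (hij : i ≠ j) a, φ (x i j a) = SpecialLinearGroup.transvection hij a) :
    (rd h).B ≤ flag φ := by
  refine sup_le (iSup₂_le ?_) ?_
  · rintro ⟨⟨i, j⟩, hij⟩ hp y hy
    obtain ⟨a, rfl⟩ := (mem_X h hij).1 hy
    exact X_le_flag hφ hp a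
  · refine (Subgroup.closure_le _).2 ?_
    rintro _ ⟨i, j, hij, u, hu, rfl⟩
    exact t_mem_flag hφ hij hu

theorem map_X_not_le (hφ : ∀ i j (hij : i ≠ j) a, φ (x i j a) = SpecialLinearGroup.transvection hij a)
    (r : Root m) (hr : ¬ (rd h).pos r) : ¬ ((rd h).X r).map φ ≤ (rd h).B.map φ := by
  obtain ⟨⟨k, l⟩, hkl⟩ := r
  have hlk : l < k := lt_of_le_of_ne (not_lt.1 hr) (Ne.symm hkl)
  intro hle
  obtain ⟨b, hb, hb'⟩ := hle (Subgroup.mem_map_of_mem φ ((mem_X h hkl).2 ⟨1, rfl⟩))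
  have h1 := (B_le_flag h hφ hb) l (Pi.single l 1)
  have h2 : ∀ j, l < j → (Pi.single l (1 : F) : Fin (m + 1) → F) j = 0 := by
    intro j hj
    rw [Pi.single_eq_of_ne hj.ne']
  have h3 := h1.1 h2 k hlk
  rw [hb', phi_x hφ hkl, if_pos rfl, Pi.single_eq_same, Pi.single_eq_of_ne hkl] at h3
  simp at h3

omit h in
theorem swap_lt {i : Fin m} {a b : Fin (m + 1)} (hab : a < b) (hne : ¬ (a = i.castSucc ∧ b = i.succ)) :
    Equiv.swap i.castSucc i.succ a < Equiv.swap i.castSucc i.succ b := by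
  simp only [Equiv.swap_apply_def]
  split_ifs with h1 h2 h3 h4 h5 h6 h7 h8 <;>
    simp only [Fin.lt_def, Fin.ext_iff, Fin.val_castSucc, Fin.val_succ] at * <;> omega

theorem ax_rd (hm : 2 ≤ m)
    (hφ : ∀ i j (hij : i ≠ j) a, φ (x i j a) = SpecialLinearGroup.transvection hij a) : (rd h).Axioms where
  refl_refl := by
    rintro i ⟨⟨a, b⟩, hab⟩
    apply Subtype.ext
    simp [rd, tr]
  refl_sim := by
    intro i
    apply Subtype.ext
    simp [rd, tr]
  refl_pos := by
    rintro i ⟨⟨a, b⟩, hab⟩ hp hne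
    refine swap_lt hp ?_
    rintro ⟨rfl, rfl⟩
    exact hne rfl
  refl_neg := by
    rintro i ⟨⟨a, b⟩, hab⟩
    rfl
  pos_sim := fun i => Fin.castSucc_lt_succ
  pos_neg := by
    rintro ⟨⟨a, b⟩, hab⟩
    change b < a ↔ ¬ a < b
    have : a ≠ b := hab
    rw [not_lt]
    exact ⟨le_of_lt, fun h1 => lt_of_le_of_ne h1 this.symm⟩
  conjH := by
    rintro g hg ⟨⟨k, l⟩, hkl⟩ y hy
    obtain ⟨a, rfl⟩ := (mem_X h hkl).1 hy
    have hι : 3 ≤ Fintype.card (Fin (m + 1)) := by rw [Fintype.card_fin]; omega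
    obtain ⟨c, -, hc⟩ := tor_conj h hι hg hkl
    exact (mem_X h hkl).2 ⟨_, hc a⟩
  conjn := by
    rintro i ⟨⟨k, l⟩, hkl⟩ y hy
    obtain ⟨a, rfl⟩ := (mem_X h hkl).1 hy
    have hι : 3 ≤ Fintype.card (Fin (m + 1)) := by rw [Fintype.card_fin]; omega
    exact (mem_X h _).2 ⟨_, w_conj h hι (cs_ne i) one_ne_zero hkl a⟩
  conjnH := by
    intro i g hg
    have hι : 3 ≤ Fintype.card (Fin (m + 1)) := by rw [Fintype.card_fin]; omega
    exact w_conj_tor h hι (cs_ne i) one_ne_zero hg
  nn := by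
    intro i
    change w x i.castSucc i.succ 1 * w x i.castSucc i.succ 1 ∈ tor x
    have h1 := w_mul_w h (cs_ne i) (1 : F) (-1)
    rw [neg_neg] at h1
    rw [h1]
    exact Subgroup.mul_mem _ (t_mem_tor (cs_ne i) one_ne_zero)
      (Subgroup.inv_mem _ (t_mem_tor (cs_ne i) (neg_ne_zero.2 one_ne_zero)))
  nmem := by
    intro i
    have h1 : x i.castSucc i.succ 1 ∈ (rd h).X ((rd h).sim i) := (mem_X h (cs_ne i)).2 ⟨1, rfl⟩
    have h2 : x i.succ i.castSucc (-1⁻¹) ∈ (rd h).X ((rd h).neg ((rd h).sim i)) :=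
      (mem_X h (cs_ne i).symm).2 ⟨-1⁻¹, rfl⟩
    refine (le_sup_left : _ ≤ _ ⊔ (rd h).H) ?_
    exact Subgroup.mul_mem _ (Subgroup.mul_mem_sup h1 h2) (Subgroup.mem_sup_left h1)
  Xneg := by
    intro i y hy
    obtain ⟨a, rfl⟩ := (mem_X h (cs_ne i).symm).1 hy
    by_cases ha : a = 0
    · left
      rw [ha, h.zero (cs_ne i).symm]
    · right
      have h1 : x i.castSucc i.succ a⁻¹ ∈ (rd h).X ((rd h).sim i) := (mem_X h (cs_ne i)).2 ⟨a⁻¹, rfl⟩
      have hι : 3 ≤ Fintype.card (Fin (m + 1)) := by rw [Fintype.card_fin]; omega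
      have ha' : -a⁻¹ ≠ 0 := neg_ne_zero.2 (inv_ne_zero ha)
      refine ⟨_, h1, w x i.castSucc i.succ (-1) * t x i.castSucc i.succ (-a⁻¹) *
        (w x i.castSucc i.succ (-1))⁻¹, ?_, _, h1, ?_⟩
      · exact w_conj_tor h hι (cs_ne i) (neg_ne_zero.2 one_ne_zero) (t_mem_tor (cs_ne i) ha')
      · change x i.succ i.castSucc a = x i.castSucc i.succ a⁻¹ * (w x i.castSucc i.succ 1 * _) * x i.castSucc i.succ a⁻¹
        have e0 : w x i.castSucc i.succ (-1) = (w x i.castSucc i.succ 1)⁻¹ := (winv h (cs_ne i) 1).symm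
        have e1 : w x i.castSucc i.succ (1 : F) *
            (w x i.castSucc i.succ (-1) * t x i.castSucc i.succ (-a⁻¹) * (w x i.castSucc i.succ (-1))⁻¹) =
            w x i.castSucc i.succ (-a⁻¹) := by
          rw [w_eq (-a⁻¹), e0]; group
        have e2 : x i.castSucc i.succ (-a⁻¹) = (x i.castSucc i.succ a⁻¹)⁻¹ := h.neg (cs_ne i) _
        have e3 : -(-a⁻¹)⁻¹ = a := by rw [inv_neg, inv_inv, neg_neg]
        rw [e1, w, e2, e3]
        group
  Unorm := by
    intro i y hy u hu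
    obtain ⟨a, rfl⟩ := (mem_X h (cs_ne i)).1 hy
    have hle : (rd h).Ui i ≤ ((rd h).Ui i).comap (MulAut.conj (x i.castSucc i.succ a)).toMonoidHom := by
      have hmem : ∀ (k l : Fin (m + 1)) (hkl : k < l) (_ : ¬ (k = i.castSucc ∧ l = i.succ)) (b : F),
          x k l b ∈ (rd h).Ui i := by
        intro k l hkl hne b
        have : (rd h).X ⟨(k, l), hkl.ne⟩ ≤ (rd h).Ui i := by
          refine le_iSup₂_of_le (⟨(k, l), hkl.ne⟩ : Root m) ⟨hkl, ?_⟩ le_rfl
          intro e
          have := congrArg Subtype.val e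
          simp only [rd, Prod.mk.injEq] at this
          exact hne this
        exact this ((mem_X h hkl.ne).2 ⟨b, rfl⟩)
      refine iSup₂_le ?_
      rintro ⟨⟨k, l⟩, hkl⟩ ⟨hp, hne⟩ z hz
      obtain ⟨b, rfl⟩ := (mem_X h hkl).1 hz
      have hp' : k < l := hp
      have hne' : ¬ (k = i.castSucc ∧ l = i.succ) := by
        rintro ⟨rfl, rfl⟩
        exact hne rfl
      change x i.castSucc i.succ a * x k l b * (x i.castSucc i.succ a)⁻¹ ∈ (rd h).Ui i
      by_cases hk : k = i.succ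
      · subst hk
        have hil : i.castSucc < l := (Fin.castSucc_lt_succ).trans hp'
        rw [cl h (cs_ne i) hkl hil.ne]
        refine Subgroup.mul_mem _ (hmem _ _ hil ?_ _) (hmem _ _ hp' hne' _)
        rintro ⟨-, rfl⟩
        exact lt_irrefl _ hp'
      by_cases hl : l = i.castSucc
      · subst hl
        have hki : k < i.succ := hp'.trans (Fin.castSucc_lt_succ)
        rw [cr h hkl (cs_ne i) hki.ne]
        refine Subgroup.mul_mem _ (hmem _ _ hp' hne' _) (hmem _ _ hki ?_ _)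
        rintro ⟨rfl, -⟩
        exact lt_irrefl _ hp'
      rw [cc h (cs_ne i) hkl (Ne.symm hk) (Ne.symm hl)]
      exact hmem _ _ hp' hne' _
    exact hle hu
  notle := by
    intro r hr hle
    exact map_X_not_le h hφ r hr (Subgroup.map_mono hle)

theorem gen_rd (hm : 2 ≤ m) (hgen : Subgroup.closure (gens x) = ⊤) :
    (rd h).B ⊔ Subgroup.closure (Set.range (rd h).n) = ⊤ := by
  have hι : 3 ≤ Fintype.card (Fin (m + 1)) := by rw [Fintype.card_fin]; omega
  set N := (rd h).B ⊔ Subgroup.closure (Set.range (rd h).n) with hN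
  have hn : ∀ i : Fin m, w x i.castSucc i.succ 1 ∈ N := fun i =>
    (le_sup_right : _ ≤ N) (Subgroup.subset_closure ⟨i, rfl⟩)
  -- `x k l b` for `k > l`: by induction on the distance
  have hpos : ∀ k l : Fin (m + 1), k < l → ∀ a, x k l a ∈ N := by
    intro k l hkl a
    have h1 : (rd h).X ⟨(k, l), hkl.ne⟩ ≤ (rd h).U := le_iSup₂_of_le (⟨(k, l), hkl.ne⟩ : Root m) hkl le_rfl
    exact (le_sup_left : _ ≤ N) ((le_sup_left : (rd h).U ≤ (rd h).B) (h1 ((mem_X h hkl.ne).2 ⟨a, rfl⟩)))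
  have hneg1 : ∀ i : Fin m, ∀ a, x i.succ i.castSucc a ∈ N := by
    intro i a
    have h1 := w_conj h hι (cs_ne i) (u := (1 : F)) one_ne_zero (cs_ne i) (-a)
    rw [Equiv.swap_apply_left, Equiv.swap_apply_right] at h1
    have e1 : om i.castSucc i.succ (1 : F) i.castSucc * -a * (om i.castSucc i.succ (1 : F) i.succ)⁻¹ = a := by
      simp [om, (cs_ne i).symm]
    rw [e1] at h1
    rw [← h1]
    exact N.mul_mem (N.mul_mem (hn i) (hpos _ _ Fin.castSucc_lt_succ _)) (N.inv_mem (hn i))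
  have hneg : ∀ d : ℕ, ∀ k l : Fin (m + 1), (l : ℕ) = k + d + 1 → ∀ a, x l k a ∈ N := by
    intro d
    induction d with
    | zero =>
      intro k l hkl a
      have hk : (k : ℕ) < m := by omega
      have := hneg1 ⟨k, hk⟩ a
      have e1 : (⟨k, hk⟩ : Fin m).castSucc = k := Fin.ext rfl
      have e2 : (⟨k, hk⟩ : Fin m).succ = l := Fin.ext (by simp [hkl])
      rwa [e1, e2] at this
    | succ d ih =>
      intro k l hkl a
      have hl : (l : ℕ) - 1 < m := by omega
      have h1 := ih k (⟨l - 1, hl⟩ : Fin m).castSucc (by simp; omega) 1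
      have h2 := hneg1 ⟨l - 1, hl⟩ a
      have e2 : (⟨l - 1, hl⟩ : Fin m).succ = l := Fin.ext (by simp; omega)
      rw [e2] at h2
      have hkne : (⟨l - 1, hl⟩ : Fin m).castSucc ≠ k := by
        intro e
        have := congrArg Fin.val e
        simp at this
        omega
      have hkl' : l ≠ k := by
        intro e
        rw [e] at hkl
        omega
      have hlne : l ≠ (⟨l - 1, hl⟩ : Fin m).castSucc := by
        intro e
        have := congrArg Fin.val e
        simp at this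
        omega
      have h3 := h.br l (⟨l - 1, hl⟩ : Fin m).castSucc k hlne hkne hkl' a 1
      rw [mul_one, commutatorElement_def] at h3
      rw [← h3]
      exact N.mul_mem (N.mul_mem (N.mul_mem h2 h1) (N.inv_mem h2)) (N.inv_mem h1)
  rw [eq_top_iff, ← hgen, Subgroup.closure_le]
  rintro _ ⟨k, l, hkl, a, rfl⟩
  rcases lt_or_gt_of_ne hkl with h1 | h1
  · exact hpos k l h1 a
  · exact hneg ((k : ℕ) - l - 1) l k (by have := Fin.lt_def.1 h1; omega) a

/-! ### the unipotent group -/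

omit h in
/-- the terms of the central series -/
def Wk (x : Fin (m + 1) → Fin (m + 1) → F → Γ) (k : ℕ) : Subgroup Γ :=
  Subgroup.closure {g | ∃ i j : Fin (m + 1), k ≤ i ∧ i < j ∧ ∃ a, g = x i j a}

theorem U_le : (rd h).U ≤ Wk x 0 := by
  refine iSup₂_le ?_
  rintro ⟨⟨i, j⟩, hij⟩ hp y hy
  obtain ⟨a, rfl⟩ := (mem_X h hij).1 hy
  exact Subgroup.subset_closure ⟨i, j, Nat.zero_le _, hp, a, rfl⟩

omit h in
theorem Wk_bot {k : ℕ} (hk : m ≤ k) : Wk x k = ⊥ := by
  rw [Wk, Subgroup.closure_eq_bot_iff]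
  rintro _ ⟨i, j, hi, hij, a, rfl⟩
  have := Fin.lt_def.1 hij
  have := j.2
  omega

theorem Wk_dec {k : Fin (m + 1)} {g : Γ} (hg : g ∈ Wk x k) :
    ∃ r ∈ h.R k, ∃ u ∈ Wk x (k + 1), g = r * u := by
  have hnorm : ∀ u ∈ Wk x (k + 1), ∀ r ∈ h.R k, u * r * u⁻¹ ∈ h.R k := by
    intro u hu
    have hcj : cj u (h.R k) = h.R k := by
      rw [Wk] at hu
      induction hu using Subgroup.closure_induction with
      | mem y hy =>
        obtain ⟨i, j, hi, hij, a, rfl⟩ := hy
        refine h.cj_x_R hij.ne ?_ a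
        rintro rfl
        have := Fin.lt_def.1 hij
        omega
      | one => exact cj_one _
      | mul y z _ _ hy hz => rw [cj_mul, hz, hy]
      | inv y _ hy => rw [cj_eq_iff, inv_inv, hy]
    intro r hr
    rw [← hcj]
    exact mem_cj hr
  have hS : ∀ g ∈ Wk x k, ∀ z, (∃ r ∈ h.R k, ∃ u ∈ Wk x (k + 1), z = r * u) →
      ∃ r ∈ h.R k, ∃ u ∈ Wk x (k + 1), g * z = r * u := by
    intro g hg
    have hgenr : ∀ y ∈ h.R k, ∀ z, (∃ r ∈ h.R k, ∃ u ∈ Wk x (k + 1), z = r * u) →
        ∃ r ∈ h.R k, ∃ u ∈ Wk x (k + 1), y * z = r * u := by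
      rintro y hy _ ⟨r, hr, u, hu, rfl⟩
      exact ⟨y * r, Subgroup.mul_mem _ hy hr, u, hu, by group⟩
    have hgenu : ∀ y ∈ Wk x (k + 1), ∀ z, (∃ r ∈ h.R k, ∃ u ∈ Wk x (k + 1), z = r * u) →
        ∃ r ∈ h.R k, ∃ u ∈ Wk x (k + 1), y * z = r * u := by
      rintro y hy _ ⟨r, hr, u, hu, rfl⟩
      exact ⟨y * r * y⁻¹, hnorm y hy r hr, y * u, Subgroup.mul_mem _ hy hu, by group⟩
    rw [Wk] at hg
    induction hg using Subgroup.closure_induction'' with
    | mem y hy =>
      obtain ⟨i, j, hi, hij, a, rfl⟩ := hy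
      rcases Nat.eq_or_lt_of_le hi with h1 | h1
      · have : k = i := Fin.ext h1
        subst this
        exact hgenr _ (h.mem_R hij.ne a)
      · exact hgenu _ (Subgroup.subset_closure ⟨i, j, h1, hij, a, rfl⟩)
    | inv_mem y hy =>
      obtain ⟨i, j, hi, hij, a, rfl⟩ := hy
      rcases Nat.eq_or_lt_of_le hi with h1 | h1
      · have : k = i := Fin.ext h1
        subst this
        exact hgenr _ (Subgroup.inv_mem _ (h.mem_R hij.ne a))
      · exact hgenu _ (Subgroup.inv_mem _ (Subgroup.subset_closure ⟨i, j, h1, hij, a, rfl⟩))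
    | one => intro z hz; rwa [one_mul]
    | mul y z _ _ hy hz => intro z' hz'; rw [mul_assoc]; exact hy _ (hz _ hz')
  have := hS g hg 1 ⟨1, Subgroup.one_mem _, 1, Subgroup.one_mem _, by group⟩
  rwa [mul_one] at this

/-- an element of `U` which is diagonal is trivial -/
theorem U_diag (hφ : ∀ i j (hij : i ≠ j) a, φ (x i j a) = SpecialLinearGroup.transvection hij a)
    {g : Γ} (hg : g ∈ (rd h).U) (hd : ∀ (y : Fin (m + 1) → F) k, y k = 0 → (φ g • y) k = 0) : g = 1 := by
  have hfix : ∀ k : Fin (m + 1), ∀ u ∈ Wk x (k + 1), ∀ y : Fin (m + 1) → F, (φ u • y) k = y k := by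
    intro k u hu
    rw [Wk] at hu
    induction hu using Subgroup.closure_induction with
    | mem z hz =>
      obtain ⟨i, j, hi, hij, a, rfl⟩ := hz
      intro y
      rw [phi_x hφ hij.ne, if_neg]
      rintro rfl
      omega
    | one => intro y; rw [map_one, one_smul]
    | mul a b _ _ ha hb => intro y; rw [map_mul, mul_smul, ha, hb]
    | inv a _ ha =>
      intro y
      have := ha (φ a⁻¹ • y)
      rw [map_inv, smul_inv_smul] at this
      rw [map_inv, this]
  have hstep : ∀ k : ℕ, k ≤ m → g ∈ Wk x k := by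
    intro k
    induction k with
    | zero => intro _; exact U_le h hg
    | succ k ih =>
      intro hk
      have h1 := ih (by omega)
      obtain ⟨r, hr, u, hu, rfl⟩ := Wk_dec h (k := ⟨k, by omega⟩) h1
      obtain ⟨c, rfl⟩ := h.exists_of_mem_R hr
      have h2 : h.D ⟨k, by omega⟩ c = h.D ⟨k, by omega⟩ 0 := by
        refine D_ext h fun j hj => ?_
        have h3 := hd ((φ u)⁻¹ • (Pi.single j (1 : F) : Fin (m + 1) → F)) ⟨k, by omega⟩
        have h4 := hfix ⟨k, by omega⟩ u hu ((φ u)⁻¹ • (Pi.single j (1 : F) : Fin (m + 1) → F))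
        rw [smul_inv_smul, Pi.single_eq_of_ne hj] at h4
        have h5 := h3 h4.symm
        rw [map_mul, mul_smul, smul_inv_smul, map_D h φ hφ, Pi.add_apply, Pi.single_eq_of_ne hj, zero_add,
          Pi.smul_apply, Pi.single_eq_same, smul_eq_mul, mul_one,
          Finset.sum_eq_single_of_mem j (Finset.mem_erase.2 ⟨Ne.symm hj, Finset.mem_univ _⟩), Pi.single_eq_same,
          mul_one] at h5
        · rw [h5]; rfl
        · intro b _ hb
          rw [Pi.single_eq_of_ne hb, mul_zero]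
      rw [h2, h.D_zero, one_mul]
      exact hu
  have h6 := hstep m le_rfl
  rw [Wk_bot le_rfl] at h6
  exact Subgroup.mem_bot.1 h6

/-- `K_2(F) = 0`, `Fin` version -/
theorem ker_eq_bot_fin [Finite F] (hm : 2 ≤ m) (hgen : Subgroup.closure (gens x) = ⊤)
    (hφ : ∀ i j (hij : i ≠ j) a, φ (x i j a) = SpecialLinearGroup.transvection hij a) : φ.ker = ⊥ := by
  have hι : 3 ≤ Fintype.card (Fin (m + 1)) := by rw [Fintype.card_fin]; omega
  have hA := ax_rd h hm hφ
  have h1 := hA.ker_le_B (gen_rd h hm hgen) φ (map_X_not_le h hφ)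
  have hker := ker_le_center h hι hgen φ hφ
  rw [eq_bot_iff]
  intro g hg
  obtain ⟨u, hu, t', ht, rfl⟩ := hA.mem_B_iff (h1 hg)
  have ht' : t' ∈ tor x := ht
  have hdiag : ∀ s ∈ tor x, ∀ (y : Fin (m + 1) → F) k, y k = 0 → (φ s • y) k = 0 := by
    intro s hs
    rw [tor] at hs
    have key : ∀ (y : Fin (m + 1) → F) k, (φ s • y) k = 0 ↔ y k = 0 := by
      induction hs using Subgroup.closure_induction with
      | mem z hz =>
        obtain ⟨i, j, hij, a, ha, rfl⟩ := hz
        intro y k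
        rw [phi_t hφ hij ha]
        split_ifs with h1 h2
        · subst h1
          simp [ha]
        · subst h2
          simp [ha]
        · rfl
      | one => intro y k; rw [map_one, one_smul]
      | mul a b _ _ ha hb => intro y k; rw [map_mul, mul_smul, ha, hb]
      | inv a _ ha =>
        intro y k
        have := ha (φ a⁻¹ • y) k
        rw [map_inv, smul_inv_smul] at this
        rw [map_inv, this]
    intro y k hk
    exact (key y k).2 hk
  have hu1 : u = 1 := by
    refine U_diag h hφ hu ?_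
    have e : φ u = φ t'⁻¹ := by
      rw [MonoidHom.mem_ker, map_mul] at hg
      rw [map_inv]
      exact eq_inv_of_mul_eq_one_left hg
    rw [e]
    exact hdiag _ (Subgroup.inv_mem _ ht')
  subst hu1
  rw [one_mul] at hg ⊢
  rw [Subgroup.mem_bot]
  exact tor_inj h hι hφ hker ht' hg

end Cfsg.Agent.H135.KTwo
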