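import Cfsg.Agent.S1024
import Cfsg.Agent.S1030
import Cfsg.Agent.S1035
import Cfsg.Agent.S1036
import Cfsg.Agent.S1037

/-!
# The torus of the tabulated Chevalley groups with trivial centre as a product of rank-one tori (helper135)

For the types G₂, F₄, E₈ (any `q`), E₆ (`q ≢ 1 mod 3`), B₂, D₄, E₇ (`q` even) the homomorphism
`torusHom D F : (Fin rank → Fˣ) →* GL` is injective with image `H` (`torusHom_injective`, `range_eq`); the rank-one
torus `hh D F i : Fˣ →* GL` is `c ↦ h_{p_i}(c)`, contained in `⟨X_{p_i}, X_{-p_i}⟩` (`hh_mem`), and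
`H ∩ ⟨X_{p_i}, X_{-p_i}⟩` is its range (`inf_eq`; all seven types, any field).
-/

set_option autoImplicit false

namespace Cfsg.Agent.H135.TorusTab

open Cfsg.Lie Cfsg.Agent.ChevalleyStructure.TorusCount Cfsg.Agent.ChevalleyStructure.TorusRange
  Cfsg.Agent.ChevalleyStructure.TorusCert
open scoped MatrixGroups Matrix

/-- the seven types -/
abbrev Types : List ChevalleyDatum := [chevG2, chevB2, chevD4, chevF4, chevE6, chevE7, chevE8]

/-- types and field sizes for which the simply connected group has trivial centre -/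
def Full (D : ChevalleyDatum) (q : ℕ) : Prop :=
  D ∈ [chevG2, chevF4, chevE8] ∨ (D = chevE6 ∧ q % 3 ≠ 1) ∨ (D ∈ [chevB2, chevD4, chevE7] ∧ Even q)

theorem Full.mem {D : ChevalleyDatum} {q : ℕ} (h : Full D q) : D ∈ Types := by
  rcases h with h | ⟨h, -⟩ | ⟨h, -⟩
  · simp only [List.mem_cons, List.not_mem_nil, or_false] at h ⊢
    tauto
  · subst h
    simp
  · simp only [List.mem_cons, List.not_mem_nil, or_false] at h ⊢
    tauto

variable {F : Type*} [Field F]

theorem simpleDiag {D : ChevalleyDatum} (hD : D ∈ Types) : SimpleDiag D F :=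
  fun i hi c hc => Cfsg.Agent.S1033.result D hD i hi c hc

theorem simple_lt {D : ChevalleyDatum} (hD : D ∈ Types) : ∀ i < D.rank, D.simple i < D.nroots := by
  intro i hi
  simp only [Types, List.mem_cons, List.not_mem_nil, or_false] at hD
  rcases hD with rfl | rfl | rfl | rfl | rfl | rfl | rfl
  · exact certG2.simple_lt ⟨i, hi⟩
  · exact certB2.simple_lt ⟨i, hi⟩
  · exact certD4.simple_lt ⟨i, hi⟩
  · exact certF4.simple_lt ⟨i, hi⟩
  · exact certE6.simple_lt ⟨i, hi⟩
  · exact certE7.simple_lt ⟨i, hi⟩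
  · exact certE8.simple_lt ⟨i, hi⟩

theorem range_eq {D : ChevalleyDatum} (hD : D ∈ Types) : D.diagonalSubgroup F = (torusHom D F).range :=
  diagonalSubgroup_eq_range (simpleDiag hD) (simple_lt hD) (fun g hg => Cfsg.Agent.S1034.result D hD g hg)

theorem gcd_two {q : ℕ} (hq1 : 1 < q) (h : Even q) : Nat.gcd 2 (q - 1) = 1 := by
  rw [← Nat.coprime_iff_gcd_eq_one, Nat.Prime.coprime_iff_not_dvd Nat.prime_two]
  obtain ⟨m, rfl⟩ := h
  omega

theorem gcd_three {q : ℕ} (hq1 : 1 < q) (h : q % 3 ≠ 1) : Nat.gcd 3 (q - 1) = 1 := by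
  rw [← Nat.coprime_iff_gcd_eq_one, Nat.Prime.coprime_iff_not_dvd Nat.prime_three]
  omega

theorem card_diag [Fintype F] {q : ℕ} (hq : Fintype.card F = q) {D : ChevalleyDatum} (h : Full D q) :
    Nat.card (D.diagonalSubgroup F) = (q - 1) ^ D.rank := by
  have hq1 : 1 < q := by rw [← hq]; exact Fintype.one_lt_card
  have key : ∀ d : ℕ, (D, d) ∈ [(Cfsg.Lie.chevG2, 1), (Cfsg.Lie.chevF4, 1), (Cfsg.Lie.chevE8, 1),
      (Cfsg.Lie.chevE6, Nat.gcd 3 (q - 1)),
      (Cfsg.Lie.chevE7, Nat.gcd 2 (q - 1)), (Cfsg.Lie.chevB2, Nat.gcd 2 (q - 1)),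
      (Cfsg.Lie.chevD4, Nat.gcd 2 (q - 1) ^ 2)] → d = 1 → Nat.card (D.diagonalSubgroup F) = (q - 1) ^ D.rank := by
    intro d hd h1
    have := Cfsg.Agent.S1035.result hq (D, d) hd
    simp only [h1, one_mul] at this
    exact this
  rcases h with h | ⟨rfl, h⟩ | ⟨h, he⟩
  · simp only [List.mem_cons, List.not_mem_nil, or_false] at h
    rcases h with rfl | rfl | rfl
    · exact key 1 (by simp) rfl
    · exact key 1 (by simp) rfl
    · exact key 1 (by simp) rfl
  · exact key _ (by simp) (gcd_three hq1 h)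
  · simp only [List.mem_cons, List.not_mem_nil, or_false] at h
    rcases h with rfl | rfl | rfl
    · exact key _ (by simp) (gcd_two hq1 he)
    · exact key (Nat.gcd 2 (q - 1) ^ 2) (by simp) (by rw [gcd_two hq1 he, one_pow])
    · exact key _ (by simp) (gcd_two hq1 he)

/-- the torus homomorphism is injective -/
theorem torusHom_injective [Fintype F] {q : ℕ} (hq : Fintype.card F = q) {D : ChevalleyDatum} (h : Full D q) :
    Function.Injective (torusHom D F) := by
  have h1 := card_diag (F := F) hq h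
  rw [range_eq h.mem] at h1
  have h2 : Nat.card (Fin D.rank → Fˣ) = (q - 1) ^ D.rank := by
    rw [Nat.card_pi, Finset.prod_const, Finset.card_univ, Fintype.card_fin, Nat.card_units,
      Nat.card_eq_fintype_card, hq]
  have h3 : Function.Injective ((torusHom D F).rangeRestrict) := by
    have hs : Function.Surjective ((torusHom D F).rangeRestrict) := (torusHom D F).rangeRestrict_surjective
    have hcard : Nat.card (Fin D.rank → Fˣ) = Nat.card (torusHom D F).range := by rw [h1, h2]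
    exact ((Nat.bijective_iff_surjective_and_card _).2 ⟨hs, hcard⟩).1
  intro a b hab
  exact h3 (Subtype.ext hab)

/-! ### the rank-one tori -/

/-- `c ↦ h_{p_i}(c)` -/
noncomputable def hh (D : ChevalleyDatum) (F : Type*) [Field F] (i : Fin D.rank) : Fˣ →* GL D.Idx F :=
  (torusHom D F).comp (MonoidHom.mulSingle (fun _ => Fˣ) i)

theorem hh_apply (D : ChevalleyDatum) (i : Fin D.rank) (c : Fˣ) : hh D F i c = torusHom D F (Pi.mulSingle i c) := rfl

/-- the torus homomorphism is the product of the rank-one tori -/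
theorem torusHom_eq_prod (D : ChevalleyDatum) (u : Fin D.rank → Fˣ) :
    torusHom D F u = (List.ofFn fun i => hh D F i (u i)).prod := by
  have h1 : u = (List.ofFn fun i => Pi.mulSingle i (u i)).prod := by
    rw [List.prod_ofFn, Finset.univ_prod_mulSingle]
  conv_lhs => rw [h1, map_list_prod, List.map_ofFn]
  rfl

theorem coe_hh {D : ChevalleyDatum} (hD : D ∈ Types) (i : Fin D.rank) (c : Fˣ) :
    ((hh D F i c : GL D.Idx F) : Matrix D.Idx D.Idx F) = D.hMat F (D.simple i) c := by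
  rw [simpleDiag (F := F) hD i i.2 (c : F) c.ne_zero, hh_apply, coe_torusHom]
  congr 1
  funext x
  rcases x with j | s
  · rfl
  · simp only [Sum.elim_inr]
    rw [mon_def, Finset.prod_eq_single i]
    · rw [Pi.mulSingle_eq_same, Units.val_zpow_eq_zpow_val]
      rfl
    · intro j _ hj
      rw [Pi.mulSingle_eq_of_ne hj, one_zpow]
    · intro h
      exact absurd (Finset.mem_univ i) h

theorem hh_mem_diag {D : ChevalleyDatum} (hD : D ∈ Types) (i : Fin D.rank) (c : Fˣ) :
    hh D F i c ∈ D.diagonalSubgroup F :=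
  torusHom_mulSingle_mem (simpleDiag hD) (simple_lt hD) i c

/-! ### the elements of `SL₂` -/

/-- the elementary matrices of `SL₂` -/
def up (F : Type*) [Field F] (t : F) : Matrix.SpecialLinearGroup (Fin 2) F := ⟨!![1, t; 0, 1], by simp [Matrix.det_fin_two]⟩
/-- the elementary matrices of `SL₂` -/
def lo (F : Type*) [Field F] (t : F) : Matrix.SpecialLinearGroup (Fin 2) F := ⟨!![1, 0; t, 1], by simp [Matrix.det_fin_two]⟩

theorem sl_eq_of_ne {A : Matrix.SpecialLinearGroup (Fin 2) F} (hc : A.1 1 0 ≠ 0) :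
    A = up F ((A.1 0 0 - 1) / A.1 1 0) * lo F (A.1 1 0) * up F ((A.1 1 1 - 1) / A.1 1 0) := by
  have hdet : A.1 0 0 * A.1 1 1 - A.1 0 1 * A.1 1 0 = 1 := by
    have := A.2
    rwa [Matrix.det_fin_two] at this
  apply Subtype.ext
  rw [Matrix.SpecialLinearGroup.coe_mul, Matrix.SpecialLinearGroup.coe_mul]
  ext i j
  fin_cases i <;> fin_cases j
  · simp [up, lo, Matrix.mul_apply, Fin.sum_univ_two]
    field_simp
    ring
  · simp [up, lo, Matrix.mul_apply, Fin.sum_univ_two]
    field_simp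
    linear_combination -hdet
  · simp [up, lo, Matrix.mul_apply, Fin.sum_univ_two]
  · simp [up, lo, Matrix.mul_apply, Fin.sum_univ_two]
    field_simp
    ring

theorem sl_eq_of_zero {A : Matrix.SpecialLinearGroup (Fin 2) F} (hc : A.1 1 0 = 0) :
    A.1 0 0 ≠ 0 ∧ A = up F (A.1 0 1 * A.1 0 0) * ((up F (A.1 0 0) * lo F (-(A.1 0 0)⁻¹) * up F (A.1 0 0)) *
      (up F (-1) * lo F (-(-1)⁻¹) * up F (-1))) := by
  have hdet : A.1 0 0 * A.1 1 1 - A.1 0 1 * A.1 1 0 = 1 := by
    have := A.2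
    rwa [Matrix.det_fin_two] at this
  rw [hc, mul_zero, sub_zero] at hdet
  have ha : A.1 0 0 ≠ 0 := left_ne_zero_of_mul_eq_one hdet
  have hd : A.1 1 1 = (A.1 0 0)⁻¹ := eq_inv_of_mul_eq_one_right hdet
  refine ⟨ha, ?_⟩
  apply Subtype.ext
  rw [Matrix.SpecialLinearGroup.coe_mul, Matrix.SpecialLinearGroup.coe_mul, Matrix.SpecialLinearGroup.coe_mul,
    Matrix.SpecialLinearGroup.coe_mul, Matrix.SpecialLinearGroup.coe_mul, Matrix.SpecialLinearGroup.coe_mul]
  ext i j
  fin_cases i <;> fin_cases j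
  · simp [up, lo, Matrix.mul_apply, Fin.sum_univ_two]
    field_simp
    ring
  · simp [up, lo, Matrix.mul_apply, Fin.sum_univ_two]
    field_simp
    ring
  · simp [up, lo, Matrix.mul_apply, Fin.sum_univ_two, hc]
    field_simp
    ring
  · simp [up, lo, Matrix.mul_apply, Fin.sum_univ_two, hd]

/-- the matrix `h_r(c)` lies in `⟨X_r, X_{-r}⟩` -/
theorem exists_hom {D : ChevalleyDatum} (hD : D ∈ Types) (i : Fin D.rank) :
    ∃ φ : Matrix.SpecialLinearGroup (Fin 2) F →* GL D.Idx F,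
      φ.range = D.rootSubgroup F (D.simple i) ⊔ D.rootSubgroup F (D.neg (D.simple i)) ∧
      (∀ t, ((φ (up F t) : GL D.Idx F) : Matrix D.Idx D.Idx F) = D.x F (D.simple i) t) ∧
      (∀ t, ((φ (lo F t) : GL D.Idx F) : Matrix D.Idx D.Idx F) = D.x F (D.neg (D.simple i)) t) ∧
      (∀ c : Fˣ, φ ((up F (c : F) * lo F (-(c : F)⁻¹) * up F (c : F)) *
        (up F (-1) * lo F (-(-1)⁻¹) * up F (-1))) = hh D F i c) := by
  obtain ⟨φ, h1, h2⟩ := Cfsg.Agent.S1030.result (F := F) D hD (D.simple i) (simple_lt hD i i.2)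
  have hup : ∀ t, ((φ (up F t) : GL D.Idx F) : Matrix D.Idx D.Idx F) = D.x F (D.simple i) t :=
    fun t => (h2 (up F t) t).1 rfl
  have hlo : ∀ t, ((φ (lo F t) : GL D.Idx F) : Matrix D.Idx D.Idx F) = D.x F (D.neg (D.simple i)) t :=
    fun t => (h2 (lo F t) t).2 rfl
  refine ⟨φ, h1, hup, hlo, ?_⟩
  intro c
  apply Units.ext
  rw [coe_hh hD]
  simp only [map_mul, Units.val_mul, hup, hlo]
  simp only [ChevalleyDatum.hMat, ChevalleyDatum.hWord, ChevalleyDatum.nWord, ChevalleyDatum.wordMat,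
    List.cons_append, List.nil_append, List.map_cons, List.map_nil, List.prod_cons, List.prod_nil, mul_one, mul_assoc]

theorem hh_mem {D : ChevalleyDatum} (hD : D ∈ Types) (i : Fin D.rank) (c : Fˣ) :
    hh D F i c ∈ D.rootSubgroup F (D.simple i) ⊔ D.rootSubgroup F (D.neg (D.simple i)) := by
  obtain ⟨φ, h1, -, -, h4⟩ := exists_hom (F := F) hD i
  rw [← h1, ← h4 c]
  exact ⟨_, rfl⟩

theorem simple_pos {D : ChevalleyDatum} (hD : D ∈ Types) (i : Fin D.rank) : D.IsPosRoot (D.simple i) ∧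
    D.IsNegRoot (D.neg (D.simple i)) := by
  have key : ∀ i < D.rank, D.IsPosRoot (D.simple i) ∧ D.IsNegRoot (D.neg (D.simple i)) := by
    simp only [Types, List.mem_cons, List.not_mem_nil, or_false] at hD
    rcases hD with rfl | rfl | rfl | rfl | rfl | rfl | rfl <;> decide +kernel
  exact key i i.2

/-- **`H ∩ ⟨X_{p_i}, X_{-p_i}⟩` is the rank-one torus** -/
theorem inf_eq {D : ChevalleyDatum} (hD : D ∈ Types) (i : Fin D.rank) :
    D.diagonalSubgroup F ⊓ (D.rootSubgroup F (D.simple i) ⊔ D.rootSubgroup F (D.neg (D.simple i))) =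
      (hh D F i).range := by
  refine le_antisymm ?_ ?_
  · rintro g ⟨hgH, hg⟩
    obtain ⟨φ, h1, h2, h3, h4⟩ := exists_hom (F := F) hD i
    rw [← h1] at hg
    obtain ⟨A, rfl⟩ := hg
    have hU : ∀ t, φ (up F t) ∈ D.posUnipotent F := fun t =>
      Subgroup.subset_closure ⟨_, t, (simple_pos hD i).1, h2 t⟩
    have hV : ∀ t, φ (lo F t) ∈ D.negUnipotent F := fun t =>
      Subgroup.subset_closure ⟨_, t, (simple_pos hD i).2, h3 t⟩
    have hUB : D.posUnipotent F ≤ D.borelSubgroup F := le_sup_left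
    have hHB : D.diagonalSubgroup F ≤ D.borelSubgroup F := le_sup_right
    by_cases hc : A.1 1 0 = 0
    · obtain ⟨ha, he⟩ := sl_eq_of_zero hc
      have h5 : φ A = φ (up F (A.1 0 1 * A.1 0 0)) * hh D F i (Units.mk0 _ ha) := by
        rw [← h4, ← map_mul, Units.val_mk0, ← he]
      have h6 : φ (up F (A.1 0 1 * A.1 0 0)) ∈ D.posUnipotent F ⊓ D.diagonalSubgroup F := by
        refine ⟨hU _, ?_⟩
        have h7 : φ (up F (A.1 0 1 * A.1 0 0)) = φ A * (hh D F i (Units.mk0 _ ha))⁻¹ := by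
          rw [h5, mul_inv_cancel_right]
        rw [h7]
        exact Subgroup.mul_mem _ hgH (Subgroup.inv_mem _ (hh_mem_diag hD i _))
      rw [(Cfsg.Agent.S1036.result D hD).2, Subgroup.mem_bot] at h6
      rw [h5, h6, one_mul]
      exact ⟨_, rfl⟩
    · exfalso
      have he := sl_eq_of_ne hc
      have h5 : φ (lo F (A.1 1 0)) = (φ (up F ((A.1 0 0 - 1) / A.1 1 0)))⁻¹ * φ A *
          (φ (up F ((A.1 1 1 - 1) / A.1 1 0)))⁻¹ := by
        have h8 : φ A = φ (up F ((A.1 0 0 - 1) / A.1 1 0)) * φ (lo F (A.1 1 0)) *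
            φ (up F ((A.1 1 1 - 1) / A.1 1 0)) := by
          rw [← map_mul, ← map_mul, ← he]
        rw [h8]
        group
      have h6 : φ (lo F (A.1 1 0)) ∈ D.borelSubgroup F ⊓ D.negUnipotent F := by
        refine ⟨?_, hV _⟩
        rw [h5]
        exact Subgroup.mul_mem _ (Subgroup.mul_mem _ (Subgroup.inv_mem _ (hUB (hU _))) (hHB hgH))
          (Subgroup.inv_mem _ (hUB (hU _)))
      rw [(Cfsg.Agent.S1037.result D hD).1, Subgroup.mem_bot] at h6
      have h7 := h3 (A.1 1 0)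
      rw [h6, Units.val_one] at h7
      exact hc ((Cfsg.Agent.S1024.result D hD _ (simple_pos hD i).2.1 _).1 h7.symm)
  · rintro _ ⟨c, rfl⟩
    exact ⟨hh_mem_diag hD i c, hh_mem hD i c⟩

end Cfsg.Agent.H135.TorusTab
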