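import Cfsg.Agent.Blocks.SimpleTrace

/-!
# The number of simple modules over an algebraically closed field of characteristic `p` (helper135)

`Brauer's theorem`: for a finite group `G` and an algebraically closed field `k` of characteristic `p`, a complete
irredundant family of simple `k[G]`-modules has as many members as there are conjugacy classes of elements of
order prime to `p` (`card_eq`).  Also the two inequalities separately (`card_le`, `le_card`).
-/

set_option autoImplicit false
set_option linter.unusedSectionVars false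

namespace Cfsg.Agent.H135.BrauerCount

open Cfsg.Agent.Blocks.SimpleTrace Module

universe u v w

/-! ### additivity of the trace -/

section Trace

variable {k : Type*} [Field k] {S V Q : Type*} [AddCommGroup S] [Module k S] [FiniteDimensional k S]
  [AddCommGroup V] [Module k V] [FiniteDimensional k V] [AddCommGroup Q] [Module k Q] [FiniteDimensional k Q]

theorem trace_add (i : S →ₗ[k] V) (q : V →ₗ[k] Q) (hi : Function.Injective i) (hq : Function.Surjective q)
    (hiq : ∀ v, q v = 0 → ∃ s, i s = v) (hqi : ∀ s, q (i s) = 0) (f : V →ₗ[k] V) (fS : S →ₗ[k] S) (fQ : Q →ₗ[k] Q)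
    (h1 : ∀ s, f (i s) = i (fS s)) (h2 : ∀ v, q (f v) = fQ (q v)) :
    LinearMap.trace k V f = LinearMap.trace k S fS + LinearMap.trace k Q fQ := by
  obtain ⟨s, hs⟩ := q.exists_rightInverse_of_surjective (LinearMap.range_eq_top.2 hq)
  obtain ⟨j, hj⟩ := i.exists_leftInverse_of_injective (LinearMap.ker_eq_bot.2 hi)
  have hs' : ∀ x, q (s x) = x := fun x => LinearMap.congr_fun hs x
  have hj' : ∀ x, j (i x) = x := fun x => LinearMap.congr_fun hj x
  -- the projection onto `S` along `s`
  let π : V →ₗ[k] S := j ∘ₗ (LinearMap.id - s ∘ₗ q)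
  have hπ : ∀ v, i (π v) = v - s (q v) := by
    intro v
    have h3 : q (v - s (q v)) = 0 := by rw [map_sub, hs', sub_self]
    obtain ⟨x, hx⟩ := hiq _ h3
    change i (j (v - s (q v))) = _
    rw [← hx, hj']
  have hπi : ∀ x, π (i x) = x := by
    intro x
    change j (i x - s (q (i x))) = x
    rw [hqi, map_zero, sub_zero, hj']
  have hf : f = (f ∘ₗ i) ∘ₗ π + (f ∘ₗ s) ∘ₗ q := by
    ext v
    rw [LinearMap.add_apply]
    change f v = f (i (π v)) + f (s (q v))
    rw [hπ, ← map_add, sub_add_cancel]
  rw [hf, map_add, LinearMap.trace_comp_comm', LinearMap.trace_comp_comm' q]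
  congr 2
  · ext x
    change π (f (i x)) = fS x
    rw [h1, hπi]
  · ext x
    change q (f (s x)) = fQ x
    rw [h2, hs']

end Trace

/-! ### traces of commuting endomorphisms -/

section Comm

variable {k : Type u} [Field k] [IsAlgClosed k] {A : Type v} [Ring A] [Algebra k A]

omit [IsAlgClosed k] in
theorem exists_simple_le {V : Type w} [AddCommGroup V] [Module k V] [Module A V] [IsScalarTower k A V]
    [FiniteDimensional k V] (W : Submodule A V) (hW : W ≠ ⊥) : ∃ S : Submodule A V, S ≤ W ∧ IsSimpleModule A S := by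
  have : IsArtinian A V := by
    have : IsArtinian k V := inferInstance
    exact isArtinian_of_tower k this
  have : IsAtomic (Submodule A V) := isAtomic_of_orderBot_wellFounded_lt wellFounded_lt
  rcases IsAtomic.eq_bot_or_exists_atom_le W with h | ⟨S, hS, hle⟩
  · exact absurd h hW
  · exact ⟨S, hle, isSimpleModule_iff_isAtom.2 hS⟩

/-- if the trace of `a` vanishes on all simple modules then the trace of `a r` vanishes for every endomorphism `r` of
every finite-dimensional module -/
theorem trace_eq_zero (a : A)
    (hz : ∀ (S : Type w) [AddCommGroup S] [Module k S] [Module A S] [IsScalarTower k A S] [FiniteDimensional k S]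
      [IsSimpleModule A S], LinearMap.trace k S (act a) = 0) (n : ℕ) :
    ∀ (V : Type w) [AddCommGroup V] [Module k V] [Module A V] [IsScalarTower k A V] [FiniteDimensional k V]
      (r : V →ₗ[A] V) (r' : V →ₗ[k] V) (_ : ∀ v, r' v = r v), finrank k V = n →
      LinearMap.trace k V (act a ∘ₗ r') = 0 := by
  induction n using Nat.strong_induction_on with
  | h n ih =>
  intro V _ _ _ _ _ r r' hr hn
  have : SMulCommClass k A V := IsScalarTower.to_smulCommClass
  rcases subsingleton_or_nontrivial V with hV | hV
  · have h1 : (act a ∘ₗ r' : V →ₗ[k] V) = 0 := by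
      ext v
      exact Subsingleton.elim _ _
    rw [h1, map_zero]
  obtain ⟨c, hc⟩ := Module.End.exists_eigenvalue r'
  obtain ⟨v, hv⟩ := hc.exists_hasEigenvector
  have hv1 : r v = c • v := by rw [← hr]; exact hv.apply_eq_smul
  have hv0 : v ≠ 0 := hv.2
  let W : Submodule A V :=
    { carrier := {x | r x = c • x}
      add_mem' := by
        intro x y hx hy
        change r (x + y) = c • (x + y)
        rw [map_add, hx, hy, smul_add]
      zero_mem' := by
        change r 0 = c • (0 : V)
        rw [map_zero, smul_zero]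
      smul_mem' := by
        intro b x hx
        change r (b • x) = c • (b • x)
        rw [map_smul, hx, smul_comm] }
  have hW : W ≠ ⊥ := by
    intro e
    have : v ∈ W := hv1
    rw [e] at this
    exact hv0 this
  obtain ⟨S, hSW, hS⟩ := exists_simple_le (k := k) W hW
  have hScr : ∀ s : S, r (s : V) = c • (s : V) := fun s => hSW s.2
  have hrS : S ≤ S.comap r := by
    intro x hx
    change r x ∈ S
    rw [hScr ⟨x, hx⟩]
    exact (S.restrictScalars k).smul_mem c hx
  let i : S →ₗ[k] V := (S.restrictScalars k).subtype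
  let q : V →ₗ[k] (V ⧸ S) := (S.mkQ).restrictScalars k
  let rq : (V ⧸ S) →ₗ[A] (V ⧸ S) := S.mapQ S r hrS
  have : FiniteDimensional k S := inferInstanceAs (FiniteDimensional k (S.restrictScalars k))
  have hqfin : FiniteDimensional k (V ⧸ S) := FiniteDimensional.of_surjective q (Submodule.mkQ_surjective S)
  have key := trace_add i q Subtype.val_injective (Submodule.mkQ_surjective S)
    (fun x hx => ⟨⟨x, (Submodule.Quotient.mk_eq_zero S).1 hx⟩, rfl⟩)
    (fun s => (Submodule.Quotient.mk_eq_zero S).2 s.2)
    (act a ∘ₗ r') (c • (act a : S →ₗ[k] S)) (act a ∘ₗ rq.restrictScalars k)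
    (by
      intro s
      change a • r' (s : V) = ((c • (a • s) : S) : V)
      rw [hr, hScr]
      change a • c • (s : V) = c • a • (s : V)
      rw [smul_comm])
    (by
      intro x
      change S.mkQ (a • r' x) = a • S.mapQ S r hrS (S.mkQ x)
      rw [hr, map_smul]
      rfl)
  rw [key, map_smul, hz S, smul_zero, zero_add]
  refine ih (finrank k (V ⧸ S)) ?_ (V ⧸ S) rq (rq.restrictScalars k) (fun _ => rfl) rfl
  have h3 : 0 < finrank k S := by
    have hnt : Nontrivial S := IsSimpleModule.nontrivial A S
    exact finrank_pos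
  have h4 : finrank k (V ⧸ S) + finrank k S = finrank k V :=
    Submodule.finrank_quotient_add_finrank (S.restrictScalars k)
  omega

end Comm

/-! ### group elements -/

section Group

variable {k : Type u} [Field k] {G : Type v} [Group G]

/-- the action of a group element -/
noncomputable def el (k : Type u) [Field k] {G : Type v} [Group G] (g : G) : MonoidAlgebra k G := MonoidAlgebra.single g 1

theorem el_mul (g h : G) : el k (g * h) = el k g * el k h := by
  rw [el, el, el, MonoidAlgebra.single_mul_single, one_mul]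

theorem el_one : el k (1 : G) = 1 := rfl

theorem act_el_pow {V : Type*} [AddCommGroup V] [Module k V] [Module (MonoidAlgebra k G) V]
    [IsScalarTower k (MonoidAlgebra k G) V] (g : G) (n : ℕ) :
    (act (el k (g ^ n)) : V →ₗ[k] V) = (act (el k g)) ^ n := by
  induction n with
  | zero => rw [pow_zero, pow_zero, el_one, act_one]
  | succ n ih => rw [pow_succ, el_mul, act_mul, ih, pow_succ]

/-- the trace of a group element depends only on its `p'`-part -/
theorem trace_of_ppart {p : ℕ} [Fact p.Prime] [CharP k p] {V : Type*} [AddCommGroup V] [Module k V]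
    [Module (MonoidAlgebra k G) V] [IsScalarTower k (MonoidAlgebra k G) V] [FiniteDimensional k V]
    {x y : G} (hxy : Commute x y) {n : ℕ} (hx : x ^ p ^ n = 1) :
    LinearMap.trace k V (act (el k (x * y))) = LinearMap.trace k V (act (el k y)) := by
  set f : V →ₗ[k] V := act (el k (x * y)) with hf
  set f' : V →ₗ[k] V := act (el k y) with hf'
  have hcomm : Commute f f' := by
    change f * f' = f' * f
    rw [hf, hf', ← act_mul, ← act_mul, ← el_mul, ← el_mul, hxy.eq, mul_assoc, hxy.eq]
  have hchar : CharP (Module.End k V) p ∨ Subsingleton V := by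
    rcases subsingleton_or_nontrivial V with h | h
    · exact Or.inr h
    · left
      have : Nontrivial (Module.End k V) := inferInstance
      exact charP_of_injective_algebraMap (algebraMap k (Module.End k V)).injective p
  rcases hchar with hc | hs
  · have hnil : (f - f') ^ p ^ n = 0 := by
      have h1 := sub_pow_char_pow_of_commute p n hcomm
      rw [h1, hf, hf', ← act_el_pow, ← act_el_pow, hxy.mul_pow, hx, one_mul, sub_self]
    have h2 := LinearMap.isNilpotent_trace_of_isNilpotent (R := k) (M := V) (⟨_, hnil⟩ : IsNilpotent (f - f'))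
    rw [isNilpotent_iff_eq_zero, map_sub, sub_eq_zero] at h2
    exact h2
  · have : f = f' := by
      ext v
      exact Subsingleton.elim _ _
    rw [this]

/-- decomposition of an element of finite order into `p`-part and `p'`-part -/
theorem exists_decomp [Finite G] (p : ℕ) [Fact p.Prime] (g : G) : ∃ x y : G, Commute x y ∧ g = x * y ∧
    (∃ n, x ^ p ^ n = 1) ∧ (orderOf y).Coprime p := by
  have hp : p.Prime := Fact.out
  obtain ⟨n, m, hm, hnm⟩ := Nat.exists_eq_pow_mul_and_not_dvd (orderOf_pos g).ne' p hp.ne_one
  have hcop : (p ^ n).Coprime m := Nat.Coprime.pow_left n ((Nat.Prime.coprime_iff_not_dvd hp).2 hm)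
  obtain ⟨a, ha1, ha2⟩ := Nat.chineseRemainder hcop 1 0
  obtain ⟨b, hb1, hb2⟩ := Nat.chineseRemainder hcop 0 1
  refine ⟨g ^ a, g ^ b, (Commute.refl g).pow_pow a b, ?_, ⟨n, ?_⟩, ?_⟩
  · rw [← pow_add]
    conv_lhs => rw [← pow_one g]
    rw [pow_eq_pow_iff_modEq, hnm, ← Nat.modEq_and_modEq_iff_modEq_mul hcop]
    exact ⟨(ha1.add hb1).symm, (ha2.add hb2).symm⟩
  · rw [← pow_mul, ← orderOf_dvd_iff_pow_eq_one, hnm, mul_comm]
    exact Nat.mul_dvd_mul ((Nat.modEq_zero_iff_dvd).1 ha2) dvd_rfl
  · have h1 : (g ^ b) ^ m = 1 := by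
      rw [← pow_mul, ← orderOf_dvd_iff_pow_eq_one, hnm]
      exact Nat.mul_dvd_mul ((Nat.modEq_zero_iff_dvd).1 hb1) dvd_rfl
    exact Nat.Coprime.coprime_dvd_left (orderOf_dvd_of_pow_eq_one h1) ((Nat.Prime.coprime_iff_not_dvd hp).2 hm).symm

/-! ### permutation modules -/

theorem trace_funLeft {X : Type*} [Fintype X] [DecidableEq X] (τ : X → X) :
    LinearMap.trace k (X → k) (LinearMap.funLeft k k τ) = ((Finset.univ.filter fun x => τ x = x).card : k) := by
  rw [LinearMap.trace_eq_matrix_trace k (Pi.basisFun k X), Matrix.trace, Finset.card_filter]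
  push_cast
  refine Finset.sum_congr rfl fun x _ => ?_
  rw [Matrix.diag_apply, LinearMap.toMatrix_apply, Pi.basisFun_repr, Pi.basisFun_apply, LinearMap.funLeft_apply,
    Pi.single_apply]

/-- the permutation representation on functions -/
noncomputable def prm (k : Type u) [Field k] (G : Type v) [Group G] (X : Type*) [MulAction G X] :
    Representation k G (X → k) where
  toFun g := LinearMap.funLeft k k (fun x => g⁻¹ • x)
  map_one' := by
    ext f x
    simp [LinearMap.funLeft]
  map_mul' g h := by
    ext f x
    simp [LinearMap.funLeft, mul_smul]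

theorem prm_apply {X : Type*} [MulAction G X] (g : G) (f : X → k) (x : X) : prm k G X g f x = f (g⁻¹ • x) := rfl

variable [Finite G]

/-- right multiplication by an element of the centralizer -/
def rmul (P : Subgroup G) (g : G) (hg : ∀ x ∈ P, x * g = g * x) : G ⧸ P → G ⧸ P :=
  Quotient.map' (fun x => x * g) (by
    intro x y hxy
    rw [QuotientGroup.leftRel_apply] at hxy ⊢
    have e : (x * g)⁻¹ * (y * g) = x⁻¹ * y := by
      calc (x * g)⁻¹ * (y * g) = g⁻¹ * ((x⁻¹ * y) * g) := by group
        _ = g⁻¹ * (g * (x⁻¹ * y)) := by rw [hg _ hxy]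
        _ = x⁻¹ * y := by group
    rw [e]
    exact hxy)

theorem rmul_mk (P : Subgroup G) (g : G) (hg : ∀ x ∈ P, x * g = g * x) (x : G) :
    rmul P g hg (x : G ⧸ P) = ((x * g : G) : G ⧸ P) := rfl

/-- two commuting elements of coprime orders whose product has order prime to `p` -/
theorem eq_one_of_coprime {p : ℕ} [Fact p.Prime] {u g : G} (hug : Commute u g) {n : ℕ} (hu : u ^ p ^ n = 1)
    (hg : (orderOf g).Coprime p) (hgu : (orderOf (g * u)).Coprime p) : u = 1 := by
  have h1 : u ^ (orderOf g * orderOf (g * u)) = 1 := by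
    have h2 : (g * u) ^ (orderOf g * orderOf (g * u)) = 1 := by
      rw [mul_comm, pow_mul, pow_orderOf_eq_one, one_pow]
    have h3 : g ^ (orderOf g * orderOf (g * u)) = 1 := by rw [pow_mul, pow_orderOf_eq_one, one_pow]
    rw [hug.symm.mul_pow, h3, one_mul] at h2
    exact h2
  have h4 : (orderOf g * orderOf (g * u)).Coprime (p ^ n) := Nat.Coprime.pow_right n (Nat.Coprime.mul_left hg hgu)
  have h5 := Nat.dvd_gcd (orderOf_dvd_of_pow_eq_one h1) (orderOf_dvd_of_pow_eq_one hu)
  rw [h4] at h5
  exact orderOf_eq_one_iff.1 (Nat.dvd_one.1 h5)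

/-- the Sylow subgroup of the centralizer -/
theorem exists_sylow (p : ℕ) [Fact p.Prime] (g : G) : ∃ P : Subgroup G, (∀ x ∈ P, x * g = g * x) ∧
    (∀ x ∈ P, ∃ n, x ^ p ^ n = 1) ∧ ∃ m, Nat.card (Subgroup.centralizer ({g} : Set G)) = Nat.card P * m ∧ ¬ p ∣ m := by
  obtain ⟨S⟩ : Nonempty (Sylow p (Subgroup.centralizer ({g} : Set G))) := inferInstance
  refine ⟨(S : Subgroup (Subgroup.centralizer ({g} : Set G))).map (Subgroup.subtype _), ?_, ?_,
    (S : Subgroup (Subgroup.centralizer ({g} : Set G))).index, ?_, ?_⟩
  · rintro _ ⟨x, hx, rfl⟩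
    exact (Subgroup.mem_centralizer_iff.1 x.2 g rfl).symm
  · rintro _ ⟨x, hx, rfl⟩
    obtain ⟨n, hn⟩ := S.isPGroup' ⟨x, hx⟩
    refine ⟨n, ?_⟩
    have h1 := congrArg (fun y : (S : Subgroup (Subgroup.centralizer ({g} : Set G))) =>
      ((y : Subgroup.centralizer ({g} : Set G)) : G)) hn
    simpa using h1
  · rw [Subgroup.card_map_of_injective (Subgroup.subtype_injective _), Subgroup.card_mul_index]
  · exact S.not_dvd_index

theorem card_fix {p : ℕ} [Fact p.Prime] {g : G} (hg : (orderOf g).Coprime p) {P : Subgroup G}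
    (hP : ∀ x ∈ P, x * g = g * x) (hPp : ∀ x ∈ P, ∃ n, x ^ p ^ n = 1) {m : ℕ}
    (hm : Nat.card (Subgroup.centralizer ({g} : Set G)) = Nat.card P * m)
    {h : G} (hh : (orderOf h).Coprime p) [Fintype (G ⧸ P)] [DecidableEq (G ⧸ P)] :
    ((¬ ∃ x, x⁻¹ * h * x = g) → (Finset.univ.filter fun q : G ⧸ P => rmul P g hP (h⁻¹ • q) = q).card = 0) ∧
    (h = g → (Finset.univ.filter fun q : G ⧸ P => rmul P g hP (h⁻¹ • q) = q).card = m) := by
  have key : ∀ x : G, rmul P g hP (h⁻¹ • (x : G ⧸ P)) = (x : G ⧸ P) ↔ x⁻¹ * h * x = g := by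
    intro x
    change ((h⁻¹ * x * g : G) : G ⧸ P) = (x : G ⧸ P) ↔ _
    rw [QuotientGroup.eq]
    constructor
    · intro hx
      -- `u = (h⁻¹ x g)⁻¹ x = g⁻¹ x⁻¹ h x`
      set u := (h⁻¹ * x * g)⁻¹ * x with hu
      have e1 : x⁻¹ * h * x = g * u := by rw [hu]; group
      obtain ⟨n, hn⟩ := hPp u hx
      have h2 : (orderOf (g * u)).Coprime p := by
        rw [← e1]
        have : orderOf (x⁻¹ * h * x) = orderOf h := by
          have h3 := orderOf_injective (MulAut.conj x⁻¹).toMonoidHom (MulAut.conj x⁻¹).injective h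
          simpa [MulAut.conj_apply] using h3
        rwa [this]
      have h3 := eq_one_of_coprime (hP u hx) hn hg h2
      rw [e1, h3, mul_one]
    · intro hx
      have e1 : (h⁻¹ * x * g)⁻¹ * x = g⁻¹ * (x⁻¹ * h * x) := by group
      rw [e1, hx, inv_mul_cancel]
      exact P.one_mem
  constructor
  · intro hno
    rw [Finset.card_eq_zero, Finset.filter_eq_empty_iff]
    intro q _ hq
    induction q using QuotientGroup.induction_on with
    | H x => exact hno ⟨x, (key x).1 hq⟩
  · rintro rfl
    have h1 := Nat.card_congr (QuotientGroup.preimageMkEquivSubgroupProdSet P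
      {q : G ⧸ P | rmul P h hP (h⁻¹ • q) = q})
    have h2 : (QuotientGroup.mk ⁻¹' {q : G ⧸ P | rmul P h hP (h⁻¹ • q) = q} : Set G) =
        (Subgroup.centralizer ({h} : Set G) : Set G) := by
      ext x
      rw [Set.mem_preimage, Set.mem_ofPred_eq, key x, SetLike.mem_coe, Subgroup.mem_centralizer_singleton_iff]
      constructor
      · intro e
        calc x * h = x * (x⁻¹ * h * x) := by rw [e]
          _ = h * x := by group
      · intro e
        calc x⁻¹ * h * x = x⁻¹ * (h * x) := by group
          _ = x⁻¹ * (x * h) := by rw [e]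
          _ = h := by group
    rw [h2, Nat.card_prod] at h1
    have h3 : Nat.card ({q : G ⧸ P | rmul P h hP (h⁻¹ • q) = q} : Set (G ⧸ P)) =
        (Finset.univ.filter fun q : G ⧸ P => rmul P h hP (h⁻¹ • q) = q).card := by
      rw [Nat.card_eq_fintype_card, ← Set.toFinset_card]
      congr 1
      ext q
      simp
    have h4 : Nat.card (Subgroup.centralizer ({h} : Set G)) = Nat.card P *
        (Finset.univ.filter fun q : G ⧸ P => rmul P h hP (h⁻¹ • q) = q).card := by
      rw [← h3, ← h1]
      rfl
    rw [hm] at h4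
    exact (Nat.eq_of_mul_eq_mul_left Nat.card_pos h4).symm

end Group

/-! ### the theorem -/

section Main

variable (k : Type u) [Field k] [IsAlgClosed k] (p : ℕ) [Fact p.Prime] [CharP k p] (G : Type v) [Group G] [Finite G]

/-- the `p`-regular classes -/
abbrev Reg (p : ℕ) (G : Type v) [Group G] : Type v :=
  {c : ConjClasses G // ∃ g, ConjClasses.mk g = c ∧ (orderOf g).Coprime p}

/-- a representative -/
noncomputable def rep {p : ℕ} {G : Type v} [Group G] (c : Reg p G) : G := c.2.choose

theorem rep_mk {p : ℕ} {G : Type v} [Group G] (c : Reg p G) : ConjClasses.mk (rep c) = c.1 := c.2.choose_spec.1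

theorem rep_coprime {p : ℕ} {G : Type v} [Group G] (c : Reg p G) : (orderOf (rep c)).Coprime p := c.2.choose_spec.2

variable {k p G}

variable {I : Type w} [Finite I] (M : I → Type (max u v)) [∀ i, AddCommGroup (M i)] [∀ i, Module k (M i)]
  [∀ i, Module (MonoidAlgebra k G) (M i)] [∀ i, IsScalarTower k (MonoidAlgebra k G) (M i)]
  [∀ i, FiniteDimensional k (M i)] [∀ i, IsSimpleModule (MonoidAlgebra k G) (M i)]

/-- the trace functions on the `p`-regular classes -/
noncomputable def tf (p : ℕ) (i : I) (c : Reg p G) : k := LinearMap.trace k (M i) (act (el k (rep c)))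

theorem trace_conj_el (V : Type*) [AddCommGroup V] [Module k V]
    [Module (MonoidAlgebra k G) V] [IsScalarTower k (MonoidAlgebra k G) V] [FiniteDimensional k V]
    {g h : G} (hgh : ConjClasses.mk g = ConjClasses.mk h) :
    LinearMap.trace k V (act (el k g)) = LinearMap.trace k V (act (el k h)) := by
  rw [ConjClasses.mk_eq_mk_iff_isConj, isConj_iff] at hgh
  obtain ⟨c, rfl⟩ := hgh
  rw [el_mul, act_mul, LinearMap.trace_mul_comm, ← act_mul, ← el_mul]
  congr 3
  group

theorem exists_class (p : ℕ) [Fact p.Prime] [CharP k p] (g : G) : ∃ c : Reg p G, ∀ (V : Type (max u v)) [AddCommGroup V] [Module k V]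
    [Module (MonoidAlgebra k G) V] [IsScalarTower k (MonoidAlgebra k G) V] [FiniteDimensional k V],
    LinearMap.trace k V (act (el k g)) = LinearMap.trace k V (act (el k (rep c))) := by
  obtain ⟨x, y, hxy, rfl, ⟨n, hn⟩, hy⟩ := exists_decomp p g
  refine ⟨⟨ConjClasses.mk y, y, rfl, hy⟩, ?_⟩
  intro V _ _ _ _ _
  rw [trace_of_ppart hxy hn]
  exact trace_conj_el V (rep_mk (⟨ConjClasses.mk y, y, rfl, hy⟩ : Reg p G)).symm

/-- the trace functions of pairwise non-isomorphic simple modules are linearly independent on the `p`-regular classes -/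
theorem linearIndependent (hinj : ∀ i j, Nonempty (M i ≃ₗ[MonoidAlgebra k G] M j) → i = j) :
    LinearIndependent k (tf (k := k) (G := G) M p) := by
  classical
  have : Fintype I := Fintype.ofFinite I
  have : Fintype G := Fintype.ofFinite G
  rw [Fintype.linearIndependent_iff]
  intro a ha j
  obtain ⟨b, hb⟩ := exists_trace_dual (F := k) (A := MonoidAlgebra k G) M
    (fun i j hij => ⟨fun e => hij (hinj i j ⟨e⟩)⟩) j
  choose c hc using fun g : G => exists_class (k := k) p g
  have hb' : ∀ i, LinearMap.trace k (M i) (act b) = ∑ g : G, b.coeff g * tf M p i (c g) := by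
    intro i
    have h1 : b = ∑ g : G, b.coeff g • el k g := by
      ext g
      simp [el, MonoidAlgebra.coeff_single]
    conv_lhs => rw [h1]
    rw [act_sum, map_sum]
    refine Finset.sum_congr rfl fun g _ => ?_
    rw [act_smul, map_smul, smul_eq_mul, hc g (M i)]
    rfl
  have h2 : ∑ i, a i * LinearMap.trace k (M i) (act b) = 0 := by
    have h3 : ∀ c' : Reg p G, ∑ i, a i * tf M p i c' = 0 := by
      intro c'
      have := congrFun ha c'
      simpa [Finset.sum_apply] using this
    calc ∑ i, a i * LinearMap.trace k (M i) (act b) = ∑ i, ∑ g : G, b.coeff g * (a i * tf M p i (c g)) := by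
          refine Finset.sum_congr rfl fun i _ => ?_
          rw [hb', Finset.mul_sum]
          refine Finset.sum_congr rfl fun g _ => ?_
          ring
      _ = ∑ g : G, b.coeff g * ∑ i, a i * tf M p i (c g) := by
          rw [Finset.sum_comm]
          refine Finset.sum_congr rfl fun g _ => ?_
          rw [Finset.mul_sum]
      _ = 0 := by simp [h3]
  rw [Finset.sum_eq_single j] at h2
  · rw [hb j, if_pos rfl, mul_one] at h2
    exact h2
  · intro i _ hij
    rw [hb i, if_neg (Ne.symm hij), mul_zero]
  · intro h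
    exact absurd (Finset.mem_univ _) h

theorem trace_rep (a : MonoidAlgebra k G)
    (hz : ∀ (S : Type (max u v)) [AddCommGroup S] [Module k S] [Module (MonoidAlgebra k G) S]
      [IsScalarTower k (MonoidAlgebra k G) S] [FiniteDimensional k S]
      [IsSimpleModule (MonoidAlgebra k G) S], LinearMap.trace k S (act a) = 0)
    (V : Type (max u v)) [AddCommGroup V] [Module k V] [FiniteDimensional k V] (ρ : Representation k G V)
    (rk : V →ₗ[k] V) (hcomm : ∀ (g : G) (f : V), rk (ρ g f) = ρ g (rk f)) :
    LinearMap.trace k V (ρ.asAlgebraHom a ∘ₗ rk) = 0 := by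
  let _ : Module (MonoidAlgebra k G) V := Module.compHom V (ρ.asAlgebraHom : MonoidAlgebra k G →+* Module.End k V)
  have hsmul : ∀ (b : MonoidAlgebra k G) (v : V), b • v = ρ.asAlgebraHom b v := fun b v => rfl
  have _ : IsScalarTower k (MonoidAlgebra k G) V := ⟨fun c b v => by
    rw [hsmul, hsmul, map_smul, LinearMap.smul_apply]⟩
  have hcomm' : ∀ (b : MonoidAlgebra k G) (f : V), rk (ρ.asAlgebraHom b f) = ρ.asAlgebraHom b (rk f) := by
    intro b f
    induction b using MonoidAlgebra.induction_linear with
    | zero => simp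
    | add x y hx hy => simp only [map_add, LinearMap.add_apply, hx, hy]
    | single g t =>
      rw [Representation.asAlgebraHom_single, LinearMap.smul_apply, LinearMap.smul_apply, map_smul, hcomm]
  let r : V →ₗ[MonoidAlgebra k G] V :=
    { toFun := rk
      map_add' := rk.map_add
      map_smul' := fun b f => hcomm' b f }
  have h1 := trace_eq_zero a hz _ V r rk (fun _ => rfl) rfl
  exact h1

/-- the trace functions of a complete family of simple modules span the functions on the `p`-regular classes -/
theorem span_eq_top (hall : ∀ (V : Type (max u v)) [AddCommGroup V] [Module (MonoidAlgebra k G) V]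
      [IsSimpleModule (MonoidAlgebra k G) V], ∃ i, Nonempty (V ≃ₗ[MonoidAlgebra k G] M i)) :
    Submodule.span k (Set.range (tf (k := k) (G := G) M p)) = ⊤ := by
  classical
  have : Fintype I := Fintype.ofFinite I
  have : Fintype (Reg p G) := Fintype.ofFinite _
  by_contra hne
  obtain ⟨φ, hφ0, hφ⟩ := Submodule.exists_le_ker_of_lt_top _ (lt_top_iff_ne_top.2 hne)
  apply hφ0
  -- the element of the group algebra
  let e : Reg p G → (Reg p G → k) := fun c => Pi.single c 1
  let a : MonoidAlgebra k G := ∑ c : Reg p G, φ (e c) • el k (rep c)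
  have hφsum : ∀ f : Reg p G → k, φ f = ∑ c, φ (e c) * f c := by
    intro f
    conv_lhs => rw [← Finset.univ_sum_single f, map_sum]
    refine Finset.sum_congr rfl fun c _ => ?_
    have : (Pi.single c (f c) : Reg p G → k) = f c • e c := by
      simp only [e]
      rw [← Pi.single_smul, smul_eq_mul, mul_one]
    rw [this, map_smul, smul_eq_mul, mul_comm]
  have hz : ∀ (S : Type (max u v)) [AddCommGroup S] [Module k S] [Module (MonoidAlgebra k G) S]
      [IsScalarTower k (MonoidAlgebra k G) S] [FiniteDimensional k S]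
      [IsSimpleModule (MonoidAlgebra k G) S], LinearMap.trace k S (act a) = 0 := by
    intro S _ _ _ _ _ _
    obtain ⟨i, ⟨E⟩⟩ := hall S
    have h1 : (E.restrictScalars k).conj (act a : S →ₗ[k] S) = act a := by
      ext m
      change E (a • E.symm m) = a • m
      rw [map_smul, LinearEquiv.apply_symm_apply]
    rw [← LinearMap.trace_conj' (act a : S →ₗ[k] S) (E.restrictScalars k), h1]
    simp only [a]
    rw [act_sum, map_sum]
    have h2 : φ (tf M p i) = 0 := hφ (Submodule.subset_span ⟨i, rfl⟩)
    rw [hφsum] at h2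
    rw [← h2]
    refine Finset.sum_congr rfl fun c _ => ?_
    rw [act_smul, map_smul, smul_eq_mul]
    rfl
  -- evaluate on a permutation module
  have hzero : ∀ c, φ (e c) = 0 := by
    intro c
    obtain ⟨P, hP, hPp, m, hm, hpm⟩ := exists_sylow p (rep c)
    have : Fintype (G ⧸ P) := Fintype.ofFinite _
    let ρ := prm k G (G ⧸ P)
    -- right multiplication
    let rk : (G ⧸ P → k) →ₗ[k] (G ⧸ P → k) := LinearMap.funLeft k k (rmul P (rep c) hP)
    have hcomm : ∀ (g : G) (f : G ⧸ P → k), rk (ρ g f) = ρ g (rk f) := by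
      intro g f
      ext q
      induction q using QuotientGroup.induction_on with
      | H x =>
        change f (g⁻¹ • rmul P (rep c) hP (x : G ⧸ P)) = f (rmul P (rep c) hP (g⁻¹ • (x : G ⧸ P)))
        congr 1
        change ((g⁻¹ * (x * rep c) : G) : G ⧸ P) = ((g⁻¹ * x * rep c : G) : G ⧸ P)
        rw [mul_assoc]
    have h1 := trace_rep a hz (G ⧸ P → k) ρ rk hcomm
    have h2 : ρ.asAlgebraHom a ∘ₗ rk =
        ∑ c' : Reg p G, φ (e c') • (LinearMap.funLeft k k (fun q => rmul P (rep c) hP ((rep c')⁻¹ • q)) :
          (G ⧸ P → k) →ₗ[k] (G ⧸ P → k)) := by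
      simp only [a]
      rw [map_sum]
      refine LinearMap.ext fun f => ?_
      rw [LinearMap.comp_apply, LinearMap.sum_apply, LinearMap.sum_apply]
      refine Finset.sum_congr rfl fun c' _ => ?_
      rw [map_smul, el, Representation.asAlgebraHom_single_one, LinearMap.smul_apply, LinearMap.smul_apply]
      rfl
    rw [h2] at h1
    have h3 := h1
    rw [map_sum, Finset.sum_eq_single c] at h3
    · rw [map_smul, trace_funLeft, (card_fix (rep_coprime c) hP hPp hm (rep_coprime c)).2 rfl, smul_eq_mul] at h3
      have h4 : ((m : ℕ) : k) ≠ 0 := by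
        intro h5
        exact hpm ((CharP.cast_eq_zero_iff k p m).1 h5)
      exact (mul_eq_zero.1 h3).resolve_right h4
    · intro c' _ hc'
      rw [map_smul, trace_funLeft, (card_fix (rep_coprime c) hP hPp hm (rep_coprime c')).1 ?_, Nat.cast_zero,
        smul_zero]
      rintro ⟨x, hx⟩
      apply hc'
      apply Subtype.ext
      rw [← rep_mk c, ← rep_mk c', ConjClasses.mk_eq_mk_iff_isConj, isConj_iff]
      exact ⟨x⁻¹, by rw [inv_inv]; exact hx⟩
    · intro h
      exact absurd (Finset.mem_univ _) h
  ext f
  rw [LinearMap.comp_apply, LinearMap.comp_apply, LinearMap.zero_apply]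
  exact hzero f

end Main

/-! ### final form, with module structures over the group algebra only -/

section Final

variable (k : Type u) [Field k] [IsAlgClosed k] (p : ℕ) [Fact p.Prime] [CharP k p] (G : Type v) [Group G] [Finite G]
  (I : Type w) [Finite I] (M : I → Type (max u v)) [∀ i, AddCommGroup (M i)]
  [∀ i, Module (MonoidAlgebra k G) (M i)] [∀ i, IsSimpleModule (MonoidAlgebra k G) (M i)]

/-- pairwise non-isomorphic simple modules: at most as many as `p`-regular classes -/
theorem card_le (hinj : ∀ i j, Nonempty (M i ≃ₗ[MonoidAlgebra k G] M j) → i = j) :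
    Nat.card I ≤ Nat.card {c : ConjClasses G // ∃ g, ConjClasses.mk g = c ∧ (orderOf g).Coprime p} := by
  classical
  let _ : ∀ i, Module k (M i) := fun i => Module.compHom (M i) (algebraMap k (MonoidAlgebra k G))
  have _ : ∀ i, IsScalarTower k (MonoidAlgebra k G) (M i) := fun i => ⟨fun c b m => by
    change (c • b) • m = (algebraMap k (MonoidAlgebra k G) c) • b • m
    rw [smul_smul, Algebra.smul_def]⟩
  have _ : ∀ i, FiniteDimensional k (M i) := fun i => by
    have h1 : Module.Finite (MonoidAlgebra k G) (M i) := inferInstance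
    exact Module.Finite.trans (MonoidAlgebra k G) (M i)
  have : Fintype I := Fintype.ofFinite I
  have : Fintype (Reg p G) := Fintype.ofFinite _
  have h1 := (linearIndependent (k := k) (p := p) (G := G) M hinj).fintype_card_le_finrank
  rw [Module.finrank_fintype_fun_eq_card] at h1
  rwa [Nat.card_eq_fintype_card, Nat.card_eq_fintype_card]

/-- a complete family of simple modules: at least as many as `p`-regular classes -/
theorem le_card (hall : ∀ (V : Type (max u v)) [AddCommGroup V] [Module (MonoidAlgebra k G) V]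
      [IsSimpleModule (MonoidAlgebra k G) V], ∃ i, Nonempty (V ≃ₗ[MonoidAlgebra k G] M i)) :
    Nat.card {c : ConjClasses G // ∃ g, ConjClasses.mk g = c ∧ (orderOf g).Coprime p} ≤ Nat.card I := by
  classical
  let _ : ∀ i, Module k (M i) := fun i => Module.compHom (M i) (algebraMap k (MonoidAlgebra k G))
  have _ : ∀ i, IsScalarTower k (MonoidAlgebra k G) (M i) := fun i => ⟨fun c b m => by
    change (c • b) • m = (algebraMap k (MonoidAlgebra k G) c) • b • m
    rw [smul_smul, Algebra.smul_def]⟩
  have _ : ∀ i, FiniteDimensional k (M i) := fun i => by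
    have h1 : Module.Finite (MonoidAlgebra k G) (M i) := inferInstance
    exact Module.Finite.trans (MonoidAlgebra k G) (M i)
  have : Fintype I := Fintype.ofFinite I
  have : Fintype (Reg p G) := Fintype.ofFinite _
  have h1 := span_eq_top (k := k) (p := p) (G := G) M hall
  have h2 := finrank_range_le_card (R := k) (tf (k := k) (G := G) M p)
  rw [Set.finrank, h1, finrank_top, Module.finrank_fintype_fun_eq_card] at h2
  rwa [Nat.card_eq_fintype_card, Nat.card_eq_fintype_card]

/-- **Brauer's theorem**: the number of simple modules over an algebraically closed field of characteristic `p` is the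
number of classes of elements of order prime to `p`. -/
theorem card_eq (hinj : ∀ i j, Nonempty (M i ≃ₗ[MonoidAlgebra k G] M j) → i = j)
    (hall : ∀ (V : Type (max u v)) [AddCommGroup V] [Module (MonoidAlgebra k G) V]
      [IsSimpleModule (MonoidAlgebra k G) V], ∃ i, Nonempty (V ≃ₗ[MonoidAlgebra k G] M i)) :
    Nat.card {c : ConjClasses G // ∃ g, ConjClasses.mk g = c ∧ (orderOf g).Coprime p} = Nat.card I :=
  le_antisymm (le_card k p G I M hall) (card_le k p G I M hinj)

end Final

end Cfsg.Agent.H135.BrauerCount
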