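import Cfsg.Agent.AGraded.Steinberg
import Cfsg.Agent.ChevalleyStructure.SteinbergBruhat

/-!
# The Steinberg group of type `A` over a finite field (helper135)

A group generated by elements with the Steinberg relations of type `A_n`, `n ≥ 2`, over a finite field `F`
(any characteristic) which maps onto `SL` is isomorphic to `SL` (`K_2(F) = 0`).  This generalises
`AGraded.KTwo` (characteristic two).
-/

set_option autoImplicit false
set_option linter.unusedSectionVars false
set_option linter.unusedVariables false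

namespace Cfsg.Agent.H135.KTwo

open scoped commutatorElement
open Matrix
open Cfsg.Agent.AGraded (SteinRel gens ker_le_center)

universe u v w

variable {ι : Type u} [Fintype ι] [DecidableEq ι] {F : Type v} [Field F] {Γ : Type w} [Group Γ]

/-- the element `w_{ij}(u)` -/
def w (x : ι → ι → F → Γ) (i j : ι) (u : F) : Γ := x i j u * x j i (-u⁻¹) * x i j u

variable {x : ι → ι → F → Γ} (h : SteinRel x)

include h

theorem winv {i j : ι} (hij : i ≠ j) (u : F) : (w x i j u)⁻¹ = w x i j (-u) := by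
  rw [w, w, _root_.mul_inv_rev, _root_.mul_inv_rev, ← h.neg hij, ← h.neg hij.symm, inv_neg, mul_assoc]

theorem cl {i j k : ι} (hij : i ≠ j) (hjk : j ≠ k) (hik : i ≠ k) (a b : F) :
    x i j a * x j k b * (x i j a)⁻¹ = x i k (a * b) * x j k b := h.conj_left hij hjk hik a b

theorem cr {i j k : ι} (hij : i ≠ j) (hjk : j ≠ k) (hik : i ≠ k) (a b : F) :
    x j k b * x i j a * (x j k b)⁻¹ = x i j a * x i k (-(a * b)) := h.conj_right hij hjk hik a b

theorem cc {i j k l : ι} (hij : i ≠ j) (hkl : k ≠ l) (hjk : j ≠ k) (hil : i ≠ l) (a b : F) :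
    x i j a * x k l b * (x i j a)⁻¹ = x k l b := by
  rw [h.comm i j k l hij hkl hjk hil, mul_inv_cancel_right]

omit h in
theorem conj_mul3 (a b c y : Γ) : (a * b * c) * y * (a * b * c)⁻¹ = a * (b * (c * y * c⁻¹) * b⁻¹) * a⁻¹ := by
  group

omit h in
theorem conj_prod (a y z : Γ) : a * (y * z) * a⁻¹ = (a * y * a⁻¹) * (a * z * a⁻¹) := by
  group

theorem cancel {i j k l : ι} (hij : i ≠ j) (hkl : k ≠ l) (hjk : j ≠ k) (hil : i ≠ l) (a b : F) :
    x i j (-a) * x k l b * x i j a = x k l b := by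
  rw [h.comm i j k l hij hkl hjk hil, mul_assoc, h.neg hij, inv_mul_cancel, mul_one]

/-- `w_{ij}(u)` acts on `x_{ik}` -/
theorem w1 {i j k : ι} (hij : i ≠ j) (hjk : j ≠ k) (hik : i ≠ k) {u : F} (hu : u ≠ 0) (a : F) :
    w x i j u * x i k a * (w x i j u)⁻¹ = x j k (-u⁻¹ * a) := by
  rw [w, conj_mul3, cc h hij hik hij.symm hik, cl h hij.symm hik hjk, conj_prod, cl h hij hjk hik,
    cc h hij hik hij.symm hik]
  have e : u * (-u⁻¹ * a) = -a := by field_simp
  rw [e]
  exact cancel h hik hjk (Ne.symm hjk) hik a _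

theorem w2 {i j k : ι} (hij : i ≠ j) (hjk : j ≠ k) (hik : i ≠ k) {u : F} (hu : u ≠ 0) (a : F) :
    w x i j u * x j k a * (w x i j u)⁻¹ = x i k (u * a) := by
  have e : -u⁻¹ * (u * a) = -a := by field_simp
  have s2 : x j i (-u⁻¹) * (x i k (u * a) * x j k a) * (x j i (-u⁻¹))⁻¹ = x i k (u * a) := by
    rw [conj_prod, cl h hij.symm hik hjk, cc h hij.symm hjk hij hjk, e, cancel h hjk hik (Ne.symm hik) hjk]
  rw [w, conj_mul3, cl h hij hjk hik, s2, cc h hij hik hij.symm hik]

theorem w3 {i j k : ι} (hij : i ≠ j) (hjk : j ≠ k) (hik : i ≠ k) {u : F} (hu : u ≠ 0) (a : F) :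
    w x i j u * x k i a * (w x i j u)⁻¹ = x k j (-(a * u)) := by
  have e : -(-(a * u) * -u⁻¹) = -a := by field_simp
  have s2 : x j i (-u⁻¹) * (x k i a * x k j (-(a * u))) * (x j i (-u⁻¹))⁻¹ = x k j (-(a * u)) := by
    rw [conj_prod, cc h hij.symm hik.symm hik hij.symm, cr h hjk.symm hij.symm hik.symm, e, ← mul_assoc]
    have := cancel h hik.symm hjk.symm hik (Ne.symm hjk) (-a) (-(a * u))
    rwa [neg_neg] at this
  rw [w, conj_mul3, cr h hik.symm hij hjk.symm, s2, cc h hij hjk.symm hjk hij]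

theorem w4 {i j k : ι} (hij : i ≠ j) (hjk : j ≠ k) (hik : i ≠ k) {u : F} (hu : u ≠ 0) (a : F) :
    w x i j u * x k j a * (w x i j u)⁻¹ = x k i (a * u⁻¹) := by
  have e : -(a * u⁻¹ * u) = -a := by field_simp
  have e' : -(a * -u⁻¹) = a * u⁻¹ := by ring
  rw [w, conj_mul3, cc h hij hjk.symm hjk hij, cr h hjk.symm hij.symm hik.symm, e', conj_prod,
    cc h hij hjk.symm hjk hij, cr h hik.symm hij hjk.symm, e, ← mul_assoc]
  have := cancel h hjk.symm hik.symm hjk (Ne.symm hik) (-a) (a * u⁻¹)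
  rwa [neg_neg] at this

theorem w0 {i j k l : ι} (hij : i ≠ j) (hkl : k ≠ l) (hki : k ≠ i) (hkj : k ≠ j) (hli : l ≠ i) (hlj : l ≠ j)
    (u a : F) : w x i j u * x k l a * (w x i j u)⁻¹ = x k l a := by
  rw [w, conj_mul3, cc h hij hkl hkj.symm hli.symm, cc h hij.symm hkl hki.symm hlj.symm,
    cc h hij hkl hkj.symm hli.symm]

omit h in
theorem conj_br (g a b : Γ) : g * ⁅a, b⁆ * g⁻¹ = ⁅g * a * g⁻¹, g * b * g⁻¹⁆ := by
  simp only [commutatorElement_def]
  group

theorem w5 (hι : 3 ≤ Fintype.card ι) {i j : ι} (hij : i ≠ j) {u : F} (hu : u ≠ 0) (a : F) :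
    w x i j u * x i j a * (w x i j u)⁻¹ = x j i (-u⁻¹ * a * u⁻¹) := by
  obtain ⟨k, hki, hkj⟩ := h.exists_third hι i j
  have e : x i j a = ⁅x i k a, x k j 1⁆ := by rw [h.br i k j hki.symm hkj hij, mul_one]
  rw [e, conj_br, w1 h hij hkj.symm hki.symm hu, w4 h hij hkj.symm hki.symm hu, h.br j k i hkj.symm hki hij.symm,
    one_mul]

theorem w6 (hι : 3 ≤ Fintype.card ι) {i j : ι} (hij : i ≠ j) {u : F} (hu : u ≠ 0) (a : F) :
    w x i j u * x j i a * (w x i j u)⁻¹ = x i j (u * a * -u) := by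
  obtain ⟨k, hki, hkj⟩ := h.exists_third hι i j
  have e : x j i a = ⁅x j k a, x k i 1⁆ := by rw [h.br j k i hkj.symm hki hij.symm, mul_one]
  rw [e, conj_br, w2 h hij hkj.symm hki.symm hu, w3 h hij hkj.symm hki.symm hu, h.br i k j hki.symm hkj hij,
    one_mul]

/-- `w_{ij}(u) = w_{ji}(-u⁻¹)` -/
theorem w_symm (hι : 3 ≤ Fintype.card ι) {i j : ι} (hij : i ≠ j) {u : F} (hu : u ≠ 0) :
    w x i j u = w x j i (-u⁻¹) := by
  have h1 : w x i j u * w x i j u * (w x i j u)⁻¹ = w x j i (-u⁻¹) := by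
    have h2 : w x i j u * (x i j u * x j i (-u⁻¹) * x i j u) * (w x i j u)⁻¹ =
        (w x i j u * x i j u * (w x i j u)⁻¹) * (w x i j u * x j i (-u⁻¹) * (w x i j u)⁻¹) *
          (w x i j u * x i j u * (w x i j u)⁻¹) := by group
    change w x i j u * (x i j u * x j i (-u⁻¹) * x i j u) * (w x i j u)⁻¹ = _
    rw [h2, w5 h hι hij hu, w6 h hι hij hu]
    have e1 : -u⁻¹ * u * u⁻¹ = -u⁻¹ := by field_simp
    have e2 : u * -u⁻¹ * -u = u := by field_simp
    have e3 : -(-u⁻¹)⁻¹ = u := by rw [inv_neg, inv_inv, neg_neg]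
    rw [e1, e2, w, e3]
  rw [← h1, mul_inv_cancel_right]

omit h [Fintype ι] in
/-- the coefficients of the monomial matrix of `w_{ij}(u)` -/
def om (i j : ι) (u : F) (k : ι) : F := if k = i then -u⁻¹ else if k = j then u else 1

omit h [Fintype ι] in
theorem om_ne_zero {i j : ι} {u : F} (hu : u ≠ 0) (k : ι) : om i j u k ≠ 0 := by
  unfold om
  split_ifs
  · exact neg_ne_zero.2 (inv_ne_zero hu)
  · exact hu
  · exact one_ne_zero

/-- conjugation by `w_{ij}(u)` -/
theorem w_conj (hι : 3 ≤ Fintype.card ι) {i j : ι} (hij : i ≠ j) {u : F} (hu : u ≠ 0) {k l : ι} (hkl : k ≠ l) (a : F) :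
    w x i j u * x k l a * (w x i j u)⁻¹ =
      x (Equiv.swap i j k) (Equiv.swap i j l) (om i j u k * a * (om i j u l)⁻¹) := by
  by_cases hki : k = i
  · subst hki
    rw [Equiv.swap_apply_left]
    by_cases hlj : l = j
    · subst hlj
      rw [Equiv.swap_apply_right, w5 h hι hij hu]
      congr 1
      simp [om, hij.symm]
    · rw [Equiv.swap_apply_of_ne_of_ne hkl.symm hlj, w1 h hij (Ne.symm hlj) hkl hu]
      congr 1
      simp [om, hkl.symm, hlj]
  by_cases hkj : k = j
  · subst hkj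
    rw [Equiv.swap_apply_right]
    by_cases hli : l = i
    · subst hli
      rw [Equiv.swap_apply_left, w6 h hι hij hu]
      congr 1
      simp [om, hij.symm]
    · rw [Equiv.swap_apply_of_ne_of_ne hli hkl.symm, w2 h hij hkl (Ne.symm hli) hu]
      congr 1
      simp [om, hki, hli, hkl.symm]
  rw [Equiv.swap_apply_of_ne_of_ne hki hkj]
  by_cases hli : l = i
  · subst hli
    rw [Equiv.swap_apply_left, w3 h hij (Ne.symm hkj) (Ne.symm hki) hu]
    congr 1
    simp [om, hki, hkj]
  by_cases hlj : l = j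
  · subst hlj
    rw [Equiv.swap_apply_right, w4 h hij (Ne.symm hkj) (Ne.symm hki) hu]
    congr 1
    simp [om, hki, hkj, hli]
  rw [Equiv.swap_apply_of_ne_of_ne hli hlj, w0 h hij hkl hki hkj hli hlj]
  congr 1
  simp [om, hki, hkj, hli, hlj]

/-- conjugation of `w_{kl}(a)` by `w_{ij}(u)` -/
theorem w_conj_w (hι : 3 ≤ Fintype.card ι) {i j : ι} (hij : i ≠ j) {u : F} (hu : u ≠ 0) {k l : ι} (hkl : k ≠ l) (a : F) :
    w x i j u * w x k l a * (w x i j u)⁻¹ =
      w x (Equiv.swap i j k) (Equiv.swap i j l) (om i j u k * a * (om i j u l)⁻¹) := by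
  have e : w x i j u * w x k l a * (w x i j u)⁻¹ = (w x i j u * x k l a * (w x i j u)⁻¹) *
      (w x i j u * x l k (-a⁻¹) * (w x i j u)⁻¹) * (w x i j u * x k l a * (w x i j u)⁻¹) := by
    rw [w, w]; group
  have e2 : om i j u l * -a⁻¹ * (om i j u k)⁻¹ = -(om i j u k * a * (om i j u l)⁻¹)⁻¹ := by
    rw [mul_inv, mul_inv, inv_inv]
    ring
  rw [e, w_conj h hι hij hu hkl, w_conj h hι hij hu hkl.symm, e2, w]

/-! ### the torus -/

omit h in
/-- `h_{ij}(u) = w_{ij}(u) w_{ij}(-1)` -/
def t (x : ι → ι → F → Γ) (i j : ι) (u : F) : Γ := w x i j u * w x i j (-1)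

omit h in
theorem w_eq {i j : ι} (u : F) : w x i j u = t x i j u * (w x i j (-1))⁻¹ := by
  rw [t]; group

theorem w_eq' {i j : ι} (hij : i ≠ j) (u : F) : w x i j u = t x i j u * w x i j 1 := by
  rw [w_eq, winv h hij, neg_neg]

theorem t_one {i j : ι} (hij : i ≠ j) : t x i j 1 = 1 := by
  rw [t, ← winv h hij, mul_inv_cancel]

/-- `w(a) w(-b) = t(a) t(b)⁻¹` -/
theorem w_mul_w {i j : ι} (hij : i ≠ j) (a b : F) : w x i j a * w x i j (-b) = t x i j a * (t x i j b)⁻¹ := by
  rw [← winv h hij, w_eq' h hij a, w_eq' h hij b]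
  group

omit h in
/-- the multiplicative weight of the root `(k, l)` on `h_{ij}(u)` -/
def wt (i j k l : ι) (u : F) : F :=
  (if k = i then u else if k = j then u⁻¹ else 1) * (if l = i then u⁻¹ else if l = j then u else 1)

omit h in
theorem wt_eq {i j k l : ι} (hij : i ≠ j) (u : F) : om i j u (Equiv.swap i j k) * om i j (-1) k *
    (om i j u (Equiv.swap i j l) * om i j (-1) l)⁻¹ = wt i j k l u := by
  have key : ∀ k, om i j u (Equiv.swap i j k) * om i j (-1) k = if k = i then u else if k = j then u⁻¹ else 1 := by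
    intro k
    by_cases hki : k = i
    · subst hki
      rw [Equiv.swap_apply_left]
      simp [om, hij.symm, inv_neg]
    · by_cases hkj : k = j
      · subst hkj
        rw [Equiv.swap_apply_right]
        simp [om, hki]
      · rw [Equiv.swap_apply_of_ne_of_ne hki hkj]
        simp [om, hki, hkj]
  rw [key, key, wt]
  congr 1
  split_ifs <;> simp

theorem t_conj (hι : 3 ≤ Fintype.card ι) {i j : ι} (hij : i ≠ j) {u : F} (hu : u ≠ 0) {k l : ι} (hkl : k ≠ l) (a : F) :
    t x i j u * x k l a * (t x i j u)⁻¹ = x k l (wt i j k l u * a) := by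
  have h1 : t x i j u * x k l a * (t x i j u)⁻¹ =
      w x i j u * (w x i j (-1) * x k l a * (w x i j (-1))⁻¹) * (w x i j u)⁻¹ := by
    rw [t]; group
  have hkl' : Equiv.swap i j k ≠ Equiv.swap i j l := fun e => hkl ((Equiv.swap i j).injective e)
  rw [h1, w_conj h hι hij (neg_ne_zero.2 one_ne_zero) hkl, w_conj h hι hij hu hkl', Equiv.swap_apply_self,
    Equiv.swap_apply_self, ← wt_eq hij]
  congr 1
  rw [mul_inv]
  ring

omit h in
theorem wt_ne_zero {i j k l : ι} {u : F} (hu : u ≠ 0) : wt i j k l u ≠ 0 := by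
  unfold wt
  apply mul_ne_zero
  · split_ifs
    · exact hu
    · exact inv_ne_zero hu
    · exact one_ne_zero
  · split_ifs
    · exact inv_ne_zero hu
    · exact hu
    · exact one_ne_zero

omit h in
theorem wt_inv {i j k l : ι} {u : F} (hu : u ≠ 0) (hij : i ≠ j) (hkl : k ≠ l) : wt i j l k u = (wt i j k l u)⁻¹ := by
  unfold wt
  by_cases hki : k = i
  · subst hki
    by_cases hlj : l = j
    · subst hlj
      simp [hkl.symm]
    · simp [hkl.symm, hlj]
  by_cases hkj : k = j
  · subst hkj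
    by_cases hli : l = i
    · subst hli
      simp [hkl, hkl.symm]
    · simp [hli, hkl.symm, hij.symm]
  by_cases hli : l = i
  · subst hli
    simp [hki, hkj]
  by_cases hlj : l = j
  · subst hlj
    simp [hki, hkj, hij.symm]
  simp [hki, hkj, hli, hlj]

/-- the torus acts on `w_{kl}(a)` -/
theorem t_conj_w (hι : 3 ≤ Fintype.card ι) {i j : ι} (hij : i ≠ j) {u : F} (hu : u ≠ 0) {k l : ι} (hkl : k ≠ l)
    (a : F) : t x i j u * w x k l a * (t x i j u)⁻¹ = w x k l (wt i j k l u * a) := by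
  have e : t x i j u * w x k l a * (t x i j u)⁻¹ = (t x i j u * x k l a * (t x i j u)⁻¹) *
      (t x i j u * x l k (-a⁻¹) * (t x i j u)⁻¹) * (t x i j u * x k l a * (t x i j u)⁻¹) := by
    rw [w]; group
  rw [e, t_conj h hι hij hu hkl, t_conj h hι hij hu hkl.symm, wt_inv hu hij hkl, w, mul_inv, mul_neg]

theorem t_conj_t (hι : 3 ≤ Fintype.card ι) {i j : ι} (hij : i ≠ j) {u : F} (hu : u ≠ 0) {k l : ι} (hkl : k ≠ l)
    (a : F) : t x i j u * t x k l a * (t x i j u)⁻¹ = t x k l (wt i j k l u * a) * (t x k l (wt i j k l u))⁻¹ := by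
  have e : t x i j u * t x k l a * (t x i j u)⁻¹ = (t x i j u * w x k l a * (t x i j u)⁻¹) *
      (t x i j u * w x k l (-1) * (t x i j u)⁻¹) := by
    rw [t, t]; group
  rw [e, t_conj_w h hι hij hu hkl, t_conj_w h hι hij hu hkl, mul_neg, mul_one, w_mul_w h hkl]

/-- the Weyl elements act on the torus -/
theorem w_conj_t (hι : 3 ≤ Fintype.card ι) {i j : ι} (hij : i ≠ j) {u : F} (hu : u ≠ 0) {k l : ι} (hkl : k ≠ l)
    (a : F) : w x i j u * t x k l a * (w x i j u)⁻¹ =
      t x (Equiv.swap i j k) (Equiv.swap i j l) (om i j u k * a * (om i j u l)⁻¹) *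
        (t x (Equiv.swap i j k) (Equiv.swap i j l) (om i j u k * (om i j u l)⁻¹))⁻¹ := by
  have hkl' : Equiv.swap i j k ≠ Equiv.swap i j l := fun e => hkl ((Equiv.swap i j).injective e)
  have e : w x i j u * t x k l a * (w x i j u)⁻¹ = (w x i j u * w x k l a * (w x i j u)⁻¹) *
      (w x i j u * w x k l (-1) * (w x i j u)⁻¹) := by
    rw [t]; group
  rw [e, w_conj_w h hι hij hu hkl, w_conj_w h hι hij hu hkl, mul_neg, mul_one, neg_mul, w_mul_w h hkl']

/-- **the Steinberg relation** `h(u) h(v) = h(uv)` for `u + v = 1` -/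
theorem t_steinberg (hι : 3 ≤ Fintype.card ι) {i j : ι} (hij : i ≠ j) {u v : F} (hu : u ≠ 0) (hv : v ≠ 0)
    (huv : u + v = 1) : t x i j u * t x i j v = t x i j (u * v) := by
  -- `x(-u) w(u) x(-u) = y(-1/u)`
  have hy : ∀ c : F, x j i (-c⁻¹) = x i j (-c) * w x i j c * x i j (-c) := by
    intro c
    rw [w, h.neg hij c]
    group
  have h1 : w x i j (u * v) = w x i j u * w x i j (-1) * w x i j v := by
    have e1 : -(u * v)⁻¹ = -u⁻¹ + -v⁻¹ := by
      field_simp
      linear_combination huv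
    have e2 : w x i j (-1) = x j i 1 * x i j (-1) * x j i 1 := by
      rw [w_symm h hι hij (neg_ne_zero.2 one_ne_zero), inv_neg, neg_neg, inv_one, w, inv_one]
    have e3 : x i j (-(u * u)) = w x i j u * x j i 1 * (w x i j u)⁻¹ := by
      rw [w6 h hι hij hu]
      congr 1
      ring
    have e4 : x i j (-(v * v)) = (w x i j v)⁻¹ * x j i 1 * w x i j v := by
      have := w6 h hι hij (neg_ne_zero.2 hv) 1
      rw [← winv h hij, inv_inv] at this
      rw [this]
      congr 1
      ring
    calc w x i j (u * v) = x i j (u * v) * (x j i (-u⁻¹) * x j i (-v⁻¹)) * x i j (u * v) := by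
          rw [w, e1, h.add j i hij.symm]
      _ = x i j (u * v) * ((x i j (-u) * w x i j u * x i j (-u)) * (x i j (-v) * w x i j v * x i j (-v))) *
            x i j (u * v) := by rw [hy u, hy v]
      _ = (x i j (u * v) * x i j (-u)) * w x i j u * (x i j (-u) * x i j (-v)) * w x i j v *
            (x i j (-v) * x i j (u * v)) := by group
      _ = x i j (-(u * u)) * w x i j u * x i j (-1) * w x i j v * x i j (-(v * v)) := by
          rw [← h.add i j hij, ← h.add i j hij, ← h.add i j hij]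
          have f1 : u * v + -u = -(u * u) := by linear_combination u * huv
          have f2 : -u + -v = -1 := by linear_combination -huv
          have f3 : -v + u * v = -(v * v) := by linear_combination v * huv
          rw [f1, f2, f3]
      _ = w x i j u * (x j i 1 * x i j (-1) * x j i 1) * w x i j v := by
          rw [e3, e4]; group
      _ = w x i j u * w x i j (-1) * w x i j v := by rw [e2]
  rw [t, t, t, h1]
  group

section phi

variable {φ : Γ →* SpecialLinearGroup ι F}
  (hφ : ∀ i j (hij : i ≠ j) a, φ (x i j a) = SpecialLinearGroup.transvection hij a)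

include hφ

omit h in
theorem phi_x {i j : ι} (hij : i ≠ j) (a : F) (v : ι → F) (k : ι) :
    (φ (x i j a) • v) k = if k = i then v i + a * v j else v k := by
  rw [hφ i j hij, Cfsg.Agent.LieClassical.SLGen.transvection_smul]
  by_cases hk : k = i
  · subst hk
    simp
  · simp [hk]

omit h in
theorem phi_w {i j : ι} (hij : i ≠ j) {u : F} (hu : u ≠ 0) (v : ι → F) (k : ι) :
    (φ (w x i j u) • v) k = if k = i then u * v j else if k = j then -u⁻¹ * v i else v k := by
  have e1 := phi_x hφ hij u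
  have e2 := phi_x hφ hij.symm (-u⁻¹)
  rw [w, map_mul, map_mul, mul_smul, mul_smul]
  by_cases hki : k = i
  · subst hki
    simp only [e1, e2, if_true, hij, hij.symm, if_false]
    field_simp
    ring
  · by_cases hkj : k = j
    · subst hkj
      simp only [e1, e2, if_true, hij, hij.symm, if_false, hki]
      field_simp
      ring
    · simp only [e1, e2, if_true, hij, hij.symm, if_false, hki, hkj]

omit h in
theorem phi_t {i j : ι} (hij : i ≠ j) {u : F} (hu : u ≠ 0) (v : ι → F) (k : ι) :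
    (φ (t x i j u) • v) k = if k = i then u * v i else if k = j then u⁻¹ * v j else v k := by
  rw [t, map_mul, mul_smul, phi_w hφ hij hu, phi_w hφ hij (neg_ne_zero.2 one_ne_zero),
    phi_w hφ hij (neg_ne_zero.2 one_ne_zero), phi_w hφ hij (neg_ne_zero.2 one_ne_zero)]
  by_cases hki : k = i
  · subst hki
    simp [hij.symm]
  · by_cases hkj : k = j
    · subst hkj
      simp [hki]
    · simp [hki, hkj]

omit h in
/-- the torus homomorphism property modulo the kernel -/
theorem c_mem_ker {i j : ι} (hij : i ≠ j) {u v : F} (hu : u ≠ 0) (hv : v ≠ 0) :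
    t x i j u * t x i j v * (t x i j (u * v))⁻¹ ∈ φ.ker := by
  rw [MonoidHom.mem_ker, map_mul, map_inv, mul_inv_eq_one]
  apply Cfsg.Agent.LieClassical.SLGen.smul_ext
  intro y
  funext k
  rw [map_mul, mul_smul, phi_t hφ hij hu, phi_t hφ hij hv, phi_t hφ hij hv, phi_t hφ hij hv,
    phi_t hφ hij (mul_ne_zero hu hv)]
  by_cases hki : k = i
  · subst hki
    simp
    ring
  · by_cases hkj : k = j
    · subst hkj
      simp [hki]
      ring
    · simp [hki, hkj]

end phi

omit h in
/-- the symbol -/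
def sym (x : ι → ι → F → Γ) (i j : ι) (u v : F) : Γ := t x i j u * t x i j v * (t x i j (u * v))⁻¹

omit h in
theorem t_mul_t (i j : ι) (u v : F) : t x i j u * t x i j v = sym x i j u v * t x i j (u * v) := by
  rw [sym]; group

omit h in
theorem comm_inv {c g : Γ} (hc : g * c = c * g) : g * c⁻¹ = c⁻¹ * g := by
  have : Commute g c := hc
  exact this.inv_right

theorem sym_br (hι : 3 ≤ Fintype.card ι) {i j k : ι} (hij : i ≠ j) (hik : i ≠ k) (hjk : j ≠ k) {u v : F}
    (hv : v ≠ 0) : t x i k v * t x i j u * (t x i k v)⁻¹ = (sym x i j u v)⁻¹ * t x i j u := by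
  have e : wt i k i j v = v := by simp [wt, hij.symm, hjk]
  have h1 := t_conj_t h hι hik hv hij u
  rw [e, mul_comm v u] at h1
  rw [h1, sym]
  group

theorem sym_mul (hι : 3 ≤ Fintype.card ι) {i j k : ι} (hij : i ≠ j) (hik : i ≠ k) (hjk : j ≠ k)
    (hc : ∀ u v, u ≠ 0 → v ≠ 0 → ∀ g : Γ, g * sym x i j u v = sym x i j u v * g) {u u' v : F}
    (hu : u ≠ 0) (hu' : u' ≠ 0) (hv : v ≠ 0) : sym x i j (u * u') v = sym x i j u v * sym x i j u' v := by
  have h1 : t x i j (u * u') = (sym x i j u u')⁻¹ * (t x i j u * t x i j u') := by rw [t_mul_t]; group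
  have h2 := sym_br h hι hij hik hjk hv (u := u * u')
  have h3 : t x i k v * t x i j (u * u') * (t x i k v)⁻¹ =
      (sym x i j u u')⁻¹ * ((sym x i j u v)⁻¹ * t x i j u) * ((sym x i j u' v)⁻¹ * t x i j u') := by
    rw [h1, ← sym_br h hι hij hik hjk hv, ← sym_br h hι hij hik hjk hv]
    have h5 := comm_inv (hc u u' hu hu' (t x i k v))
    calc t x i k v * ((sym x i j u u')⁻¹ * (t x i j u * t x i j u')) * (t x i k v)⁻¹ =
        (t x i k v * (sym x i j u u')⁻¹) * (t x i j u * t x i j u') * (t x i k v)⁻¹ := by group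
      _ = (sym x i j u u')⁻¹ * (t x i k v * t x i j u * (t x i k v)⁻¹) *
          (t x i k v * t x i j u' * (t x i k v)⁻¹) := by
          rw [h5]; group
  rw [h3, h1] at h2
  have h7 := comm_inv (hc u' v hu' hv (t x i j u))
  have h9 : (sym x i j u u')⁻¹ * ((sym x i j u v)⁻¹ * (sym x i j u' v)⁻¹) * (t x i j u * t x i j u') =
      (sym x i j (u * u') v)⁻¹ * (sym x i j u u')⁻¹ * (t x i j u * t x i j u') := by
    calc (sym x i j u u')⁻¹ * ((sym x i j u v)⁻¹ * (sym x i j u' v)⁻¹) * (t x i j u * t x i j u') =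
        (sym x i j u u')⁻¹ * (sym x i j u v)⁻¹ * ((sym x i j u' v)⁻¹ * t x i j u) * t x i j u' := by group
      _ = (sym x i j u u')⁻¹ * ((sym x i j u v)⁻¹ * t x i j u) * ((sym x i j u' v)⁻¹ * t x i j u') := by
          rw [← h7]; group
      _ = _ := by rw [h2]; group
  have h10 := mul_right_cancel h9
  have h11 : (sym x i j (u * u') v)⁻¹ * (sym x i j u u')⁻¹ = (sym x i j u u')⁻¹ * (sym x i j (u * u') v)⁻¹ := by
    rw [← _root_.mul_inv_rev, ← _root_.mul_inv_rev, hc (u * u') v (mul_ne_zero hu hu') hv (sym x i j u u')]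
  rw [h11] at h10
  have h12 := mul_left_cancel h10
  rw [← _root_.inv_inj, ← h12, _root_.mul_inv_rev, ← _root_.mul_inv_rev, hc u v hu hv, _root_.mul_inv_rev]

/-- `c_{ik}(v,u) = c_{ij}(u,v)⁻¹` -/
theorem sym_swap (hι : 3 ≤ Fintype.card ι) {i j k : ι} (hij : i ≠ j) (hik : i ≠ k) (hjk : j ≠ k)
    (hc : ∀ u v, u ≠ 0 → v ≠ 0 → ∀ g : Γ, g * sym x i j u v = sym x i j u v * g) {u v : F}
    (hu : u ≠ 0) (hv : v ≠ 0) : sym x i k v u = (sym x i j u v)⁻¹ := by
  have h1 := sym_br h hι hij hik hjk hv (u := u)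
  have h2 := sym_br h hι hik hij hjk.symm hu (u := v)
  -- `t_ik(v) t_ij(u) = c_ij(u,v)⁻¹ t_ij(u) t_ik(v)`, `t_ij(u) t_ik(v) = c_ik(v,u)⁻¹ t_ik(v) t_ij(u)`
  have h3 : t x i k v * t x i j u = (sym x i j u v)⁻¹ * (t x i j u * t x i k v) := by
    rw [← mul_assoc, ← h1]; group
  have h4 : t x i j u * t x i k v = (sym x i k v u)⁻¹ * (t x i k v * t x i j u) := by
    rw [← mul_assoc, ← h2]; group
  rw [h3, ← mul_assoc] at h4
  have h5 : (sym x i k v u)⁻¹ * (sym x i j u v)⁻¹ = 1 := by
    have := mul_right_cancel (b := t x i j u * t x i k v) (a := 1)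
      (c := (sym x i k v u)⁻¹ * (sym x i j u v)⁻¹) (by rw [one_mul]; exact h4)
    exact this.symm
  rw [inv_mul_eq_one] at h5
  exact h5

omit h in
/-- in a finite field of odd characteristic there are two non-squares with sum `1` -/
theorem exists_nonsq [Finite F] (h2 : (2 : F) ≠ 0) : ∃ u v : F, ¬ IsSquare u ∧ ¬ IsSquare v ∧ u + v = 1 := by
  classical
  have : Fintype F := Fintype.ofFinite F
  by_contra hcon
  push Not at hcon
  obtain ⟨a, ha⟩ : ∃ a : F, ¬ IsSquare a := by
    refine FiniteField.exists_nonsquare ?_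
    intro hc
    have : CharP F 2 := hc ▸ ringChar.charP F
    exact h2 (CharTwo.two_eq_zero)
  have ha0 : a ≠ 0 := by rintro rfl; exact ha (IsSquare.zero)
  let S : Finset F := Finset.univ.filter fun y => y ≠ 0 ∧ IsSquare y
  let N : Finset F := Finset.univ.filter fun y => ¬ IsSquare y
  have h3 : S.card ≤ N.card := by
    refine Finset.card_le_card_of_injOn (fun y => a * y) ?_ ?_
    · intro y hy
      simp only [S, N, Finset.coe_filter, Finset.mem_univ, true_and, Set.mem_ofPred_eq] at hy ⊢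
      intro hs
      apply ha
      have h5 : IsSquare (a * y / y) := hs.div hy.2
      rwa [mul_div_cancel_right₀ _ hy.1] at h5
    · intro y _ z _ hyz
      exact mul_left_cancel₀ ha0 hyz
  have h4 : N.card ≤ (S.erase 1).card := by
    refine Finset.card_le_card_of_injOn (fun y => 1 - y) ?_ ?_
    · intro y hy
      simp only [S, N, Finset.coe_erase, Finset.coe_filter, Finset.mem_univ, true_and, Set.mem_ofPred_eq,
        Set.mem_sdiff, Set.mem_singleton_iff] at hy ⊢
      refine ⟨⟨?_, ?_⟩, ?_⟩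
      · intro e
        apply hy
        have : y = 1 := by linear_combination -e
        rw [this]
        exact IsSquare.one
      · by_contra hs
        exact hcon y (1 - y) hy hs (by ring)
      · intro e
        apply hy
        have : y = 0 := by linear_combination -e
        rw [this]
        exact IsSquare.zero
    · intro y _ z _ hyz
      exact sub_right_injective hyz
  have h5 : (1 : F) ∈ S := by
    simp only [S, Finset.mem_filter, Finset.mem_univ, true_and]
    exact ⟨one_ne_zero, IsSquare.one⟩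
  have h6 := Finset.card_erase_lt_of_mem h5
  omega

/-- **the symbols are trivial** over finite fields -/
theorem sym_eq_one [Finite F] (hι : 3 ≤ Fintype.card ι) {φ : Γ →* SpecialLinearGroup ι F}
    (hφ : ∀ i j (hij : i ≠ j) a, φ (x i j a) = SpecialLinearGroup.transvection hij a)
    (hker : φ.ker ≤ Subgroup.center Γ) {i j : ι} (hij : i ≠ j)
    {u v : F} (hu : u ≠ 0) (hv : v ≠ 0) : sym x i j u v = 1 := by
  classical
  have : Fintype F := Fintype.ofFinite F
  obtain ⟨k, hki, hkj⟩ := h.exists_third hι i j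
  have hc : ∀ i j, i ≠ j → ∀ u v, u ≠ 0 → v ≠ 0 → ∀ g : Γ, g * sym x i j u v = sym x i j u v * g :=
    fun i j hij u v hu hv g => Subgroup.mem_center_iff.1 (hker (c_mem_ker hφ hij hu hv)) g
  have hmul1 : ∀ {u u' v : F}, u ≠ 0 → u' ≠ 0 → v ≠ 0 →
      sym x i j (u * u') v = sym x i j u v * sym x i j u' v := fun hu hu' hv =>
    sym_mul h hι hij hki.symm hkj.symm (hc i j hij) hu hu' hv
  have hmul2 : ∀ {u v v' : F}, u ≠ 0 → v ≠ 0 → v' ≠ 0 →
      sym x i j u (v * v') = sym x i j u v * sym x i j u v' := by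
    intro u v v' hu hv hv'
    have e : ∀ {u v : F}, u ≠ 0 → v ≠ 0 → sym x i j u v = (sym x i k v u)⁻¹ := fun hu hv =>
      sym_swap h hι hki.symm hij hkj (hc i k hki.symm) hv hu
    rw [e hu (mul_ne_zero hv hv'), e hu hv, e hu hv',
      sym_mul h hι hki.symm hij hkj (hc i k hki.symm) hv hv' hu, _root_.mul_inv_rev]
    have h1 := hc i k hki.symm v u hv hu (sym x i k v' u)⁻¹
    exact comm_inv h1
  obtain ⟨g, hg⟩ := IsCyclic.exists_generator (α := Fˣ)
  have hg0 := g.ne_zero
  -- powers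
  have hp1 : ∀ (v : F), v ≠ 0 → ∀ a : ℕ, sym x i j ((g : F) ^ a) v = (sym x i j g v) ^ a := by
    intro v hv a
    induction a with
    | zero =>
      have h3 := hmul1 (u := 1) (u' := 1) one_ne_zero one_ne_zero hv
      rw [mul_one] at h3
      rw [pow_zero, pow_zero]
      exact (mul_left_cancel (a := sym x i j 1 v) (b := 1) (c := sym x i j 1 v) (by rw [mul_one]; exact h3)).symm
    | succ a ih => rw [pow_succ, hmul1 (pow_ne_zero _ hg0) hg0 hv, ih, pow_succ]
  have hp2 : ∀ (u : F), u ≠ 0 → ∀ b : ℕ, sym x i j u ((g : F) ^ b) = (sym x i j u g) ^ b := by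
    intro u hu b
    induction b with
    | zero =>
      have h3 := hmul2 (v := 1) (v' := 1) hu one_ne_zero one_ne_zero
      rw [mul_one] at h3
      rw [pow_zero, pow_zero]
      exact (mul_left_cancel (a := sym x i j u 1) (b := 1) (c := sym x i j u 1) (by rw [mul_one]; exact h3)).symm
    | succ a ih => rw [pow_succ, hmul2 hu (pow_ne_zero _ hg0) hg0, ih, pow_succ]
  have hpow : ∀ a b : ℕ, sym x i j ((g : F) ^ a) ((g : F) ^ b) = (sym x i j g g) ^ (a * b) := by
    intro a b
    rw [hp1 _ (pow_ne_zero _ hg0), hp2 _ hg0, ← pow_mul, mul_comm]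
  have hex : ∀ u : F, u ≠ 0 → ∃ a : ℕ, u = (g : F) ^ a := by
    intro u hu
    obtain ⟨n, hn⟩ := (mem_powers_iff_mem_zpowers (y := Units.mk0 u hu)).2 (hg _)
    have := congrArg Units.val hn
    rw [Units.val_mk0] at this
    refine ⟨n, ?_⟩
    rw [← this]
    exact Units.val_pow_eq_pow_val g n
  -- `c(g,g)² = 1`
  have hsq : (sym x i j g g) ^ 2 = 1 := by
    have e : wt i j i j (g : F) = g * g := by simp [wt, hij.symm]
    have h1 := t_conj_t h hι hij hg0 hij (g : F)
    rw [e, mul_inv_cancel_right] at h1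
    have h2 : sym x i j (g : F) ((g : F) ^ 2) = 1 := by
      rw [sym, mul_inv_eq_one, pow_two, ← mul_assoc]
      exact eq_mul_inv_iff_mul_eq.1 h1
    rw [hp2 _ hg0] at h2
    exact h2
  -- `c(g,g)` has odd exponent
  have hone : sym x i j g g = 1 := by
    have hodd : ∃ m : ℕ, Odd m ∧ (sym x i j g g) ^ m = 1 := by
      by_cases h2 : (2 : F) = 0
      · refine ⟨Fintype.card F - 1, ?_, ?_⟩
        · have : CharP F 2 := CharTwo.of_one_ne_zero_of_two_eq_zero one_ne_zero h2
          have hev : Even (Fintype.card F) := by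
            have := FiniteField.even_card_iff_char_two.1 (ringChar.eq F 2 ▸ rfl : ringChar F = 2)
            exact Nat.even_iff.2 this
          have hpos : 1 < Fintype.card F := Fintype.one_lt_card
          obtain ⟨r, hr⟩ := hev
          exact ⟨r - 1, by omega⟩
        · rw [← hp1 _ hg0]
          have : (g : F) ^ (Fintype.card F - 1) = 1 := FiniteField.pow_card_sub_one_eq_one _ hg0
          rw [this]
          have := hp1 _ hg0 0
          rwa [pow_zero, pow_zero] at this
      · obtain ⟨u, v, hu, hv, huv⟩ := exists_nonsq h2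
        have hu0 : u ≠ 0 := by rintro rfl; exact hu IsSquare.zero
        have hv0 : v ≠ 0 := by rintro rfl; exact hv IsSquare.zero
        obtain ⟨a, rfl⟩ := hex u hu0
        obtain ⟨b, rfl⟩ := hex v hv0
        have ha : Odd a := by
          rw [← Nat.not_even_iff_odd]
          exact fun he => hu (he.isSquare_pow _)
        have hb : Odd b := by
          rw [← Nat.not_even_iff_odd]
          exact fun he => hv (he.isSquare_pow _)
        refine ⟨a * b, ha.mul hb, ?_⟩
        rw [← hpow, sym, mul_inv_eq_one]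
        exact t_steinberg h hι hij hu0 hv0 huv
    obtain ⟨m, ⟨r, rfl⟩, hm⟩ := hodd
    rw [pow_succ, pow_mul, hsq, one_pow, one_mul] at hm
    exact hm
  obtain ⟨a, rfl⟩ := hex u hu
  obtain ⟨b, rfl⟩ := hex v hv
  rw [hpow, hone, one_pow]

end Cfsg.Agent.H135.KTwo
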